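import Cfsg.Agent.Char.Constituents
import Cfsg.Agent.Char.Orthogonality
import Cfsg.Agent.Char.Values
import Cfsg.Agent.Char.Kernel
import Cfsg.Agent.Char.Linear
import Cfsg.Agent.Char.PermChar
import Cfsg.Agent.Char.TI

/-!
# No transitive group of small rank with a regular TI abelian subgroup with a small normaliser
-/

set_option autoImplicit false

namespace Derange5732

open scoped Classical ComplexConjugate
open CfsgLib.Char Finset

universe u v

variable {G : Type u} [Group G] [Fintype G]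

/-- The hypotheses on the regular abelian TI subgroup. -/
structure TISub (S : Subgroup G) (n l J : ℕ) : Prop where
  card_eq : Nat.card S = n
  comm : ∀ a b : S, a * b = b * a
  cent : ∀ u ∈ S, u ≠ 1 → Subgroup.centralizer ({u} : Set G) = S
  gen : ∀ K : Subgroup G, K.Normal → S ≤ K → K = ⊤
  norm : Nat.card (Subgroup.normalizer (S : Set G)) = n * l
  n_eq : n = J * l + 1
  two_le : 2 ≤ l
  three_le : 3 ≤ J
  l_le : l ≤ J + 1

/-- Restriction to `S`. -/
def resS (S : Subgroup G) (χ : G → ℂ) : S → ℂ := fun s => χ (s : G)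

/-- `∑_{u ∈ S, u ≠ 1} |χ u|²`. -/
noncomputable def offSum (S : Subgroup G) (χ : G → ℂ) : ℝ :=
  ∑ s ∈ univ.filter (fun s : S => s ≠ 1), ‖χ s‖ ^ 2

/-- An invariant function on a set with orbits of constant length. -/
theorem dvd_sum_of_stabilizer {A : Type u} [Group A] [Finite A] {β : Type u} [Fintype β] [MulAction A β]
    {t : ℕ} (hstab : ∀ a : β, (MulAction.stabilizer A a).index = t) (f : β → ℕ)
    (hf : ∀ (g : A) (a : β), f (g • a) = f a) : t ∣ ∑ a, f a := by
  classical
  haveI := Fintype.ofFinite (Quotient (MulAction.orbitRel A β))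
  rw [← Finset.sum_fiberwise univ (fun a => Quotient.mk (MulAction.orbitRel A β) a) f]
  refine Finset.dvd_sum fun o _ => ?_
  obtain ⟨a, rfl⟩ := Quotient.exists_rep o
  have hmem : ∀ b, b ∈ univ.filter (fun b => Quotient.mk (MulAction.orbitRel A β) b =
      Quotient.mk (MulAction.orbitRel A β) a) ↔ b ∈ MulAction.orbit A a := fun b => by
    rw [Finset.mem_filter, Quotient.eq, MulAction.orbitRel_apply]
    simp
  rw [Finset.sum_congr rfl (g := fun _ => f a) fun b hb => by
    obtain ⟨g, rfl⟩ := MulAction.mem_orbit_iff.1 ((hmem b).1 hb)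
    exact hf g a, Finset.sum_const, smul_eq_mul]
  refine Dvd.dvd.mul_right ?_ _
  rw [← hstab a, MulAction.index_stabilizer, ← Nat.card_coe_set_eq, ← Nat.card_eq_finsetCard]
  exact dvd_of_eq (Nat.card_congr (Equiv.subtypeEquivRight fun b => (hmem b).symm))

namespace TISub

variable {S : Subgroup G} {n l J : ℕ}

theorem isCharacter_res {χ : G → ℂ} (hχ : Cfsg.IsCharacter G χ) :
    Cfsg.IsCharacter S (resS S χ) :=
  IsCharacter.restrict hχ S

theorem linear_of_irr (h : TISub S n l J) {χ : S → ℂ} (hχ : Cfsg.IsIrrCharacter S χ) : χ 1 = 1 :=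
  IsIrrCharacter.apply_one_eq_one hχ h.comm

/-- Data of the restriction of a character to `S`. -/
theorem res_data (h : TISub S n l J) {χ : G → ℂ} (hχ : Cfsg.IsCharacter G χ) {b : ℕ}
    (hb : χ 1 = b) :
    ∃ c : (S → ℂ) → ℕ, (∀ t ∈ irrFinset S, Cfsg.classInner (resS S χ) t = c t) ∧
      ∑ t ∈ irrFinset S, c t = b ∧
      Cfsg.classInner (resS S χ) (resS S χ) = ((∑ t ∈ irrFinset S, c t ^ 2 : ℕ) : ℂ) := by
  have hres := isCharacter_res (S := S) hχ
  have hex : ∀ t ∈ irrFinset S, ∃ k : ℕ, Cfsg.classInner (resS S χ) t = k := fun t ht =>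
    IsCharacter.exists_classInner_eq_natCast hres (mem_irrFinset.1 ht)
  choose! c hc using hex
  refine ⟨c, hc, ?_, ?_⟩
  · have h1 := congrFun (eq_sum_irr (IsCharacter.isClassFunction hres)) 1
    rw [Finset.sum_apply] at h1
    have h2 : resS S χ 1 = b := by simpa [resS] using hb
    rw [h2] at h1
    have h3 : ((∑ t ∈ irrFinset S, c t : ℕ) : ℂ) = b := by
      rw [Nat.cast_sum, h1]
      refine Finset.sum_congr rfl fun t ht => ?_
      rw [Pi.smul_apply, h.linear_of_irr (mem_irrFinset.1 ht), hc t ht, smul_eq_mul, mul_one]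
    exact_mod_cast h3
  · rw [classInner_eq_sum_irr (IsCharacter.isClassFunction hres), Nat.cast_sum]
    refine Finset.sum_congr rfl fun t ht => ?_
    rw [hc t ht, Complex.conj_natCast, Nat.cast_pow, sq]

theorem sum_sq_res (h : TISub S n l J) (χ : G → ℂ) {ν : ℕ}
    (hν : Cfsg.classInner (resS S χ) (resS S χ) = ν) :
    ∑ s : S, ‖χ s‖ ^ 2 = (n : ℝ) * ν := by
  have h1 := classInner_self (resS S χ)
  rw [hν] at h1
  have h2 : (ν : ℝ) = (Nat.card S : ℝ)⁻¹ * ∑ s : S, ‖χ s‖ ^ 2 := by exact_mod_cast h1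
  rw [h2, h.card_eq, ← mul_assoc, mul_inv_cancel₀, one_mul]
  rw [h.n_eq]; exact Nat.cast_ne_zero.2 (Nat.succ_ne_zero _)

theorem offSum_eq (h : TISub S n l J) (χ : G → ℂ) {b ν : ℕ} (hb : χ 1 = b)
    (hν : Cfsg.classInner (resS S χ) (resS S χ) = ν) :
    offSum S χ = (n : ℝ) * ν - (b : ℝ) ^ 2 := by
  rw [← h.sum_sq_res χ hν, ← Finset.add_sum_erase univ _ (Finset.mem_univ (1 : S)), offSum,
    Finset.filter_ne']
  simp [hb]

/-- The TI bound. -/
theorem offSum_le (h : TISub S n l J) {χ : G → ℂ} (hχ : Cfsg.IsIrrCharacter G χ) :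
    offSum S χ ≤ (n : ℝ) * l := by
  set N := Subgroup.normalizer (S : Set G)
  let f : (G ⧸ N) × {s : S // s ≠ 1} → G := fun x => x.1.out * (x.2.1 : G) * x.1.out⁻¹
  have hf : Function.Injective f := by
    rintro ⟨q, u, hu⟩ ⟨q', u', hu'⟩ he
    simp only [f] at he
    have h1 : (q'.out⁻¹ * q.out) * (u : G) * (q'.out⁻¹ * q.out)⁻¹ = u' := by
      calc (q'.out⁻¹ * q.out) * (u : G) * (q'.out⁻¹ * q.out)⁻¹
          = q'.out⁻¹ * (q.out * u * q.out⁻¹) * q'.out := by group
        _ = u' := by rw [he]; group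
    have hmem : q'.out⁻¹ * q.out ∈ N := by
      by_contra hn
      exact hu (Subtype.ext (eq_one_of_centralizer_eq h.cent hn u.2 (h1 ▸ u'.2)))
    have hq : q' = q := by
      rw [← q'.out_eq', ← q.out_eq']
      exact QuotientGroup.eq.2 hmem
    subst hq
    simp only [inv_mul_cancel, one_mul, inv_one, mul_one, SetLike.coe_eq_coe] at h1
    subst h1
    rfl
  have h1 : ∑ x : (G ⧸ N) × {s : S // s ≠ 1}, ‖χ (f x)‖ ^ 2 ≤ ∑ g : G, ‖χ g‖ ^ 2 := by
    rw [← Finset.sum_image (g := f) (f := fun g => ‖χ g‖ ^ 2) (fun a _ b _ hab => hf hab)]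
    exact Finset.sum_le_sum_of_subset_of_nonneg (Finset.subset_univ _) fun _ _ _ => by positivity
  have h2 : ∑ x : (G ⧸ N) × {s : S // s ≠ 1}, ‖χ (f x)‖ ^ 2
      = (Nat.card (G ⧸ N) : ℝ) * offSum S χ := by
    rw [Fintype.sum_prod_type]
    have : ∀ q : G ⧸ N, ∑ s : {s : S // s ≠ 1}, ‖χ (f (q, s))‖ ^ 2 = offSum S χ := by
      intro q
      simp only [f, IsIrrCharacter.isClassFunction hχ _ q.out]
      rw [offSum, Finset.sum_subtype (p := fun s : S => s ≠ 1) _ (by simp)]
    rw [Finset.sum_congr rfl (fun q _ => this q), Finset.sum_const, Finset.card_univ, nsmul_eq_mul,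
      Nat.card_eq_fintype_card]
  have h3 : ∑ g : G, ‖χ g‖ ^ 2 = (Nat.card G : ℝ) := by
    have h4 := classInner_self χ
    rw [IsIrrCharacter.classInner_self hχ] at h4
    have h5 : (1 : ℝ) = (Nat.card G : ℝ)⁻¹ * ∑ g : G, ‖χ g‖ ^ 2 := by exact_mod_cast h4
    rw [eq_inv_mul_iff_mul_eq₀ (by exact_mod_cast Nat.card_pos.ne'), mul_one] at h5
    exact h5.symm
  have hG : (Nat.card G : ℝ) = (Nat.card (G ⧸ N) : ℝ) * ((n : ℝ) * l) := by
    rw [Subgroup.card_eq_card_quotient_mul_card_subgroup N, h.norm]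
    push_cast
    ring
  rw [h2, h3, hG] at h1
  exact le_of_mul_le_mul_left h1 (by exact_mod_cast Nat.card_pos)

/-- `l` divides `χ(1) - ⟨χ_S, 1⟩`. -/
theorem dvd_degree_sub (h : TISub S n l J) {χ : G → ℂ} (hχ : Cfsg.IsCharacter G χ)
    {c : (S → ℂ) → ℕ} (hc : ∀ t ∈ irrFinset S, Cfsg.classInner (resS S χ) t = c t) :
    l ∣ ∑ t ∈ (irrFinset S).erase (fun _ => 1), c t := by
  set N := Subgroup.normalizer (S : Set G)
  let conjS : N → S ≃* S := fun x =>
    { toFun := fun s => ⟨(x : G) * s * (x : G)⁻¹,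
        Subgroup.le_normalizer_iff.1 (le_refl N) x x.2 s s.2⟩
      invFun := fun s => ⟨(x : G)⁻¹ * s * x, by
        simpa using Subgroup.le_normalizer_iff.1 (le_refl N) (x : G)⁻¹ (inv_mem x.2) s s.2⟩
      left_inv := fun s => Subtype.ext (by simp [mul_assoc])
      right_inv := fun s => Subtype.ext (by simp [mul_assoc])
      map_mul' := fun a b => Subtype.ext (by simp [mul_assoc]) }
  let X := {t : S → ℂ // Cfsg.IsIrrCharacter S t ∧ t ≠ fun _ => 1}
  have : Finite X := by
    haveI := finite_irrCharacter S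
    exact Finite.of_injective (fun t : X => (⟨t.1, t.2.1⟩ : Cfsg.IrrCharacter S))
      (fun a b hab => Subtype.ext (congrArg Subtype.val hab :))
  have : Fintype X := Fintype.ofFinite X
  let _ : MulAction N X :=
    { smul := fun x t => ⟨fun s => t.1 (conjS x⁻¹ s),
        IsIrrCharacter.comp_surjective t.2.1 (conjS x⁻¹).toMonoidHom (conjS x⁻¹).surjective,
        fun he => t.2.2 (funext fun s => by
          have := congrFun he ((conjS x⁻¹).symm s)
          simpa using this)⟩
      one_smul := fun t => Subtype.ext (funext fun s => by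
        show t.1 (conjS 1⁻¹ s) = t.1 s
        refine congrArg t.1 (Subtype.ext ?_)
        exact (by show ((1⁻¹ : N) : G) * s * ((1⁻¹ : N) : G)⁻¹ = s; simp))
      mul_smul := fun a b t => Subtype.ext (funext fun s => by
        show t.1 (conjS (a * b)⁻¹ s) = t.1 (conjS b⁻¹ (conjS a⁻¹ s))
        refine congrArg t.1 (Subtype.ext ?_)
        exact (by
          show ((a * b)⁻¹ : N).1 * s * ((a * b)⁻¹ : N).1⁻¹
            = (b⁻¹ : N).1 * ((a⁻¹ : N).1 * s * (a⁻¹ : N).1⁻¹) * (b⁻¹ : N).1⁻¹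
          simp [mul_assoc])) }
  have hindex : (S.subgroupOf N).index = l := by
    have h1 := Subgroup.card_mul_index (S.subgroupOf N)
    rw [Nat.card_congr (Subgroup.subgroupOfEquivOfLe Subgroup.le_normalizer).toEquiv, h.card_eq,
      h.norm] at h1
    exact Nat.eq_of_mul_eq_mul_left (by rw [h.n_eq]; omega) h1
  have hstab : ∀ t : X, (MulAction.stabilizer N t).index = l := by
    intro t
    suffices hs : MulAction.stabilizer N t = S.subgroupOf N by rw [hs, hindex]
    obtain ⟨lam, hlam⟩ := IsCharacter.exists_hom (IsIrrCharacter.isCharacter t.2.1)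
      (h.linear_of_irr t.2.1)
    ext x
    rw [MulAction.mem_stabilizer_iff, Subgroup.mem_subgroupOf]
    constructor
    · intro hx
      by_contra hxS
      apply t.2.2
      -- the commutator map with `x` is bijective on `S`
      let φ : S → S := fun s => conjS x⁻¹ s * s⁻¹
      have hinj : Function.Injective φ := by
        intro a b hab
        have h1 : conjS x⁻¹ (b⁻¹ * a) = b⁻¹ * a := by
          simp only [φ] at hab
          rw [map_mul, map_inv]
          have hb' : conjS x⁻¹ a = conjS x⁻¹ b * b⁻¹ * a := by rw [← hab]; group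
          rw [hb']
          calc (conjS x⁻¹ b)⁻¹ * (conjS x⁻¹ b * b⁻¹ * a) = b⁻¹ * a := by group
            _ = _ := rfl
        by_contra hne
        have hne' : ((b⁻¹ * a : S) : G) ≠ 1 := fun he =>
          hne (inv_mul_eq_one.1 (Subtype.ext he : b⁻¹ * a = 1)).symm
        have h2 : (x : G)⁻¹ ∈ S := by
          rw [← h.cent _ (b⁻¹ * a).2 hne', Subgroup.mem_centralizer_singleton_iff]
          have h3 : ((x⁻¹ : N) : G) * ((b⁻¹ * a : S) : G) * ((x⁻¹ : N) : G)⁻¹ = ((b⁻¹ * a : S) : G) :=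
            congrArg Subtype.val h1
          simpa using mul_inv_eq_iff_eq_mul.1 h3
        exact hxS (by simpa using S.inv_mem h2)
      funext s
      obtain ⟨r, rfl⟩ := Finite.surjective_of_injective hinj s
      have hx' : t.1 (conjS x⁻¹ r) = t.1 r := congrFun (congrArg Subtype.val hx) r
      rw [hlam] at hx'
      rw [hlam]
      have h5 : lam (conjS x⁻¹ r) = lam r := Units.ext hx'
      simp [φ, map_mul, h5]
    · intro hx
      refine Subtype.ext (funext fun s => ?_)
      show t.1 (conjS x⁻¹ s) = t.1 s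
      refine congrArg t.1 (Subtype.ext ?_)
      show ((x⁻¹ : N) : G) * s * ((x⁻¹ : N) : G)⁻¹ = s
      have : ((x⁻¹ : N) : G) * s = s * ((x⁻¹ : N) : G) :=
        congrArg Subtype.val (h.comm ⟨_, by simpa using S.inv_mem hx⟩ s :
          (⟨((x⁻¹ : N) : G), by simpa using S.inv_mem hx⟩ : S) * s = s * _)
      rw [this, mul_inv_cancel_right]
  have hinv : ∀ (x : N) (t : X), c (x • t).1 = c t.1 := by
    intro x t
    have key : Cfsg.classInner (resS S χ) (x • t).1 = Cfsg.classInner (resS S χ) t.1 := by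
      rw [classInner_def, classInner_def]
      congr 1
      refine Fintype.sum_equiv (conjS x⁻¹).toEquiv _ _ fun s => ?_
      show χ (s : G) * conj (t.1 (conjS x⁻¹ s))
        = χ (((x⁻¹ : N) : G) * s * ((x⁻¹ : N) : G)⁻¹) * conj (t.1 (conjS x⁻¹ s))
      rw [IsCharacter.isClassFunction hχ]
    rw [hc _ (mem_irrFinset.2 (x • t).2.1), hc _ (mem_irrFinset.2 t.2.1)] at key
    exact_mod_cast key
  have hsum : ∑ t ∈ (irrFinset S).erase (fun _ => 1), c t = ∑ t : X, c t.1 := by
    refine Finset.sum_subtype (p := fun t => Cfsg.IsIrrCharacter S t ∧ t ≠ fun _ => 1) _ ?_ c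
    intro t
    simp [mem_irrFinset, and_comm]
  rw [hsum]
  exact dvd_sum_of_stabilizer hstab (fun t => c t.1) hinv

/-- Degree, multiplicity of the trivial character and norm of a restriction. -/
theorem triple (h : TISub S n l J) {χ : G → ℂ} (hχ : Cfsg.IsIrrCharacter G χ) :
    ∃ b m0 ν : ℕ, χ 1 = b ∧ 0 < b ∧ Cfsg.classInner (resS S χ) (fun _ => 1) = m0 ∧
      Cfsg.classInner (resS S χ) (resS S χ) = ν ∧ m0 ≤ b ∧ l ∣ b - m0 ∧
      m0 ^ 2 + (b - m0) ≤ ν := by
  obtain ⟨b, hb0, hb⟩ := IsIrrCharacter.exists_degree hχ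
  obtain ⟨c, hc, hsum, hν⟩ := h.res_data (IsIrrCharacter.isCharacter hχ) hb
  have h1 : (fun _ => (1 : ℂ)) ∈ irrFinset S := mem_irrFinset.2 isIrrCharacter_one
  rw [← Finset.add_sum_erase _ _ h1] at hsum hν
  refine ⟨b, c (fun _ => 1), _, hb, Nat.pos_of_ne_zero (by
    intro h0
    exact IsIrrCharacter.apply_one_ne_zero hχ (by rw [hb, h0, Nat.cast_zero])), hc _ h1, hν,
    by omega, ?_, ?_⟩
  · have := h.dvd_degree_sub (IsIrrCharacter.isCharacter hχ) hc
    rwa [show b - c (fun _ => 1) = ∑ t ∈ (irrFinset S).erase (fun _ => 1), c t by omega]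
  · refine Nat.add_le_add_left ?_ _
    rw [show b - c (fun _ => 1) = ∑ t ∈ (irrFinset S).erase (fun _ => 1), c t by omega]
    exact Finset.sum_le_sum fun t _ => Nat.le_self_pow two_ne_zero _

/-- A character whose restriction to `S` is trivial is trivial. -/
theorem eq_one_of_res (h : TISub S n l J) {χ : G → ℂ} (hχ : Cfsg.IsIrrCharacter G χ) {b : ℕ}
    (hb : χ 1 = b) (hm : Cfsg.classInner (resS S χ) (fun _ => 1) = b) : χ = fun _ => 1 := by
  obtain ⟨c, hc, hsum, -⟩ := h.res_data (IsIrrCharacter.isCharacter hχ) hb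
  have h1 : (fun _ => (1 : ℂ)) ∈ irrFinset S := mem_irrFinset.2 isIrrCharacter_one
  have hc1 : c (fun _ => 1) = b := by
    have := hc _ h1
    rw [hm] at this
    exact_mod_cast this.symm
  rw [← Finset.add_sum_erase _ _ h1] at hsum
  have h0 : ∀ t ∈ (irrFinset S).erase (fun _ => 1), c t = 0 := fun t ht =>
    (Finset.sum_eq_zero_iff.1 (show ∑ t ∈ (irrFinset S).erase (fun _ => 1), c t = 0 by omega)) t ht
  have hres : resS S χ = fun _ => (b : ℂ) := by
    have h2 := eq_sum_irr (IsCharacter.isClassFunction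
      (isCharacter_res (S := S) (IsIrrCharacter.isCharacter hχ)))
    rw [← Finset.add_sum_erase _ _ h1, Finset.sum_eq_zero (fun t ht => by
      rw [hc t (Finset.mem_of_mem_erase ht), h0 t ht, Nat.cast_zero, zero_smul]), add_zero,
      hc _ h1, hc1] at h2
    rw [h2]
    funext s
    simp
  have hker := h.gen _ (kerSubgroup_normal (IsIrrCharacter.isCharacter hχ)) (fun g hg => by
    rw [mem_kerSubgroup, hb]
    exact congrFun hres ⟨g, hg⟩)
  have hconst : χ = fun _ => (b : ℂ) := funext fun g => by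
    have := (mem_kerSubgroup (IsIrrCharacter.isCharacter hχ) g).1 (hker ▸ Subgroup.mem_top g)
    rw [this, hb]
  by_contra hne
  have h3 := IsIrrCharacter.classInner_of_ne hχ isIrrCharacter_one hne
  rw [hconst, show (fun _ : G => (b : ℂ)) = (b : ℂ) • (fun _ : G => (1 : ℂ)) by funext g; simp,
    classInner_smul_left, classInner_one_one, mul_one] at h3
  have h4 := IsIrrCharacter.apply_one_ne_zero hχ
  rw [hb, h3] at h4
  exact h4 rfl

/-- The central inequality: a character with `m₀ ≥ 1` has large degree or large norm. -/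
theorem arith {m s : ℤ} {l J : ℤ} (hl : 2 ≤ l) (hJ : 3 ≤ J) (hlJ : l ≤ J + 1) (hm : 1 ≤ m)
    (hml : m ≤ l - 1) (hs : 1 ≤ s) (hsm : s ≤ m) :
    (J * l) * (l - 1) < (J * l + 1) * (m ^ 2 + s * l) - (m + s * l) ^ 2 := by
  have e1 : (J * l) * (l - 1) < (J * l + 1) * (m ^ 2 + l) - (m + l) ^ 2 ∨ False := by
    left
    have hn : 3 * l + 1 ≤ J * l + 1 := by nlinarith
    have hn2 : (l - 1) * l + 1 ≤ J * l + 1 := by nlinarith
    nlinarith [mul_nonneg (mul_nonneg (show (0:ℤ) ≤ J by omega) (show (0:ℤ) ≤ l by omega))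
      (show (0:ℤ) ≤ m ^ 2 - 1 by nlinarith), mul_nonneg (show (0:ℤ) ≤ m - 1 by omega)
      (show (0:ℤ) ≤ l - 1 by omega), sq_nonneg (m - 1), sq_nonneg (l - 2)]
  have e2 : (J * l) * (l - 1) < (J * l + 1) * (m ^ 2 + m * l) - (m + m * l) ^ 2 := by
    rcases eq_or_lt_of_le hm with h1 | h1
    · subst h1
      rcases e1 with e | e
      · simpa using e
      · exact e.elim
    by_cases h5 : 5 ≤ l
    · have hn2 : (l - 1) * l + 1 ≤ J * l + 1 := by nlinarith
      have hA : (J * l + 1) * (m ^ 2 + (m - 1) * l + 1) ≥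
          ((l - 1) * l + 1) * (m ^ 2 + (m - 1) * l + 1) :=
        mul_le_mul_of_nonneg_right hn2 (by nlinarith)
      have hB : 3 * l * m ^ 2 ≤ 3 * l * ((l - 1) * m) := by
        apply mul_le_mul_of_nonneg_left _ (by omega); nlinarith
      nlinarith [mul_nonneg (show (0:ℤ) ≤ m - 2 by omega)
        (mul_nonneg (show (0:ℤ) ≤ l by omega) (sq_nonneg (l - 2))),
        mul_nonneg (show (0:ℤ) ≤ l by omega) (show (0:ℤ) ≤ (l - 1) * (l - 5) + 2 by nlinarith)]
    · have : l ≤ 4 := by omega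
      have : m ≤ 3 := by omega
      interval_cases l <;> interval_cases m <;> nlinarith
  rcases e1 with e1 | e
  swap
  · exact e.elim
  by_cases hs1 : s = 1
  · subst hs1; simpa using e1
  by_cases hsm' : s = m
  · subst hsm'; exact e2
  -- concavity
  have hms : 0 < m - 1 := by omega
  have key : (m - 1) * ((J * l + 1) * (m ^ 2 + s * l) - (m + s * l) ^ 2 - (J * l) * (l - 1))
      = (m - s) * ((J * l + 1) * (m ^ 2 + l) - (m + l) ^ 2 - (J * l) * (l - 1))
        + (s - 1) * ((J * l + 1) * (m ^ 2 + m * l) - (m + m * l) ^ 2 - (J * l) * (l - 1))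
        + l ^ 2 * (s - 1) * (m - s) * (m - 1) := by ring
  by_contra hc
  push Not at hc
  have hL : (m - 1) * ((J * l + 1) * (m ^ 2 + s * l) - (m + s * l) ^ 2 - (J * l) * (l - 1)) ≤ 0 :=
    mul_nonpos_of_nonneg_of_nonpos hms.le (by linarith)
  have hR1 := mul_pos (show (0:ℤ) < m - s by omega) (sub_pos.2 e1)
  have hR2 := mul_pos (show (0:ℤ) < s - 1 by omega) (sub_pos.2 e2)
  have hR3 : 0 ≤ l ^ 2 * (s - 1) * (m - s) * (m - 1) :=
    mul_nonneg (mul_nonneg (mul_nonneg (sq_nonneg l) (by omega)) (by omega)) hms.le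
  linarith

/-- No transitive group of rank at least four has such a regular subgroup. -/
theorem false_of_rank (h : TISub S n l J) {α : Type v} [MulAction G α] [Fintype α]
    [MulAction.IsPretransitive G α] (hα : Nat.card α = n)
    (hreg : ∀ s ∈ S, s ≠ 1 → ∀ x : α, s • x ≠ x)
    (hrank : 4 * Nat.card G ≤ ∑ g : G, Nat.card (MulAction.fixedBy α g) ^ 2) : False := by
  have hn0 : 0 < n := by rw [h.n_eq]; omega
  obtain ⟨ω⟩ : Nonempty α := (Nat.card_pos_iff.1 (hα ▸ hn0)).1
  set π : G → ℂ := fun g => (Nat.card (MulAction.fixedBy α g) : ℂ) with hπ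
  have hπc : Cfsg.IsCharacter G π := by
    rw [hπ, ← indFun_one_stabilizer (X := α) ω]
    exact IsCharacter.indFun isCharacter_one
  have hπS : ∀ s : S, π s = if s = 1 then (n : ℂ) else 0 := by
    intro s
    by_cases hs : s = 1
    · subst hs
      rw [if_pos rfl]
      simp only [hπ, OneMemClass.coe_one, MulAction.fixedBy_one_eq_univ, Nat.cast_inj]
      rw [Nat.card_congr (Equiv.Set.univ α), hα]
    · rw [if_neg hs]
      simp only [hπ, Nat.cast_eq_zero]
      rw [Nat.card_eq_zero]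
      left
      exact ⟨fun x => hreg s s.2 (fun he => hs (Subtype.ext he)) x.1 x.2⟩
  have hπ1 : π 1 = n := by simpa using hπS 1
  have hπlin : ∀ t ∈ irrFinset S, Cfsg.classInner (resS S π) t = 1 := by
    intro t ht
    rw [classInner_def]
    simp only [resS, hπS, ite_mul, zero_mul]
    rw [Finset.sum_ite_eq' univ (1 : S), if_pos (Finset.mem_univ _),
      h.linear_of_irr (mem_irrFinset.1 ht), map_one, mul_one, h.card_eq,
      inv_mul_cancel₀ (by exact_mod_cast hn0.ne')]
  have hπone : Cfsg.classInner π (fun _ => 1) = 1 := by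
    have hsum : ∑ g : G, Nat.card (MulAction.fixedBy α g) = Nat.card G := by
      have := MulAction.sum_card_fixedBy_eq_card_orbits_mul_card_group G α
      have h1 : Fintype.card (MulAction.orbitRel.Quotient G α) = 1 := by
        rw [Fintype.card_eq_one_iff]
        refine ⟨⟦ω⟧, fun q => Quotient.inductionOn q fun x => Quotient.sound ?_⟩
        exact MulAction.orbitRel_apply.2 (MulAction.exists_smul_eq G ω x)
      rw [h1, one_mul] at this
      simpa [Nat.card_eq_fintype_card] using this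
    rw [classInner_def]
    simp only [hπ, map_one, mul_one]
    rw [← Nat.cast_sum, hsum, inv_mul_cancel₀ (by exact_mod_cast Nat.card_pos.ne')]
  have hex : ∀ χ ∈ irrFinset G, ∃ k : ℕ, Cfsg.classInner π χ = k := fun χ hχ =>
    IsCharacter.exists_classInner_eq_natCast hπc (mem_irrFinset.1 hχ)
  choose! c hc using hex
  choose! B M V hB hBpos hM hV hMB hdiv hVge using fun χ (hχ : χ ∈ irrFinset G) =>
    h.triple (mem_irrFinset.1 hχ)
  set one : G → ℂ := fun _ => 1 with hone
  have h1mem : one ∈ irrFinset G := mem_irrFinset.2 isIrrCharacter_one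
  -- degree sum and norm
  have hdeg : ∑ χ ∈ irrFinset G, c χ * B χ = n := by
    have e := congrFun (eq_sum_irr (IsCharacter.isClassFunction hπc)) 1
    rw [hπ1, Finset.sum_apply] at e
    have : ((∑ χ ∈ irrFinset G, c χ * B χ : ℕ) : ℂ) = n := by
      rw [Nat.cast_sum, e]
      exact Finset.sum_congr rfl fun χ hχ => by
        rw [Pi.smul_apply, hc χ hχ, hB χ hχ, smul_eq_mul, Nat.cast_mul]
    exact_mod_cast this
  have hc1 : c one = 1 := by
    have := hc one h1mem
    rw [hπone] at this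
    exact_mod_cast this.symm
  -- multiplicities over `S`
  set T := (irrFinset G).erase one
  have hsplit : ∀ f : (G → ℂ) → ℕ, ∑ χ ∈ irrFinset G, f χ = f one + ∑ χ ∈ T, f χ := fun f =>
    (Finset.add_sum_erase _ f h1mem).symm
  set Θ := T.filter (fun χ => c χ ≠ 0)
  have hΘirr : ∀ χ ∈ Θ, χ ∈ irrFinset G := fun χ hχ =>
    Finset.mem_of_mem_erase (Finset.mem_filter.1 hχ).1
  -- for each linear character of `S` the total multiplicity is one
  have hnat : ∀ χ ∈ irrFinset G, ∃ d : (S → ℂ) → ℕ,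
      (∀ t ∈ irrFinset S, Cfsg.classInner (resS S χ) t = d t) ∧ ∑ t ∈ irrFinset S, d t = B χ ∧
      Cfsg.classInner (resS S χ) (resS S χ) = ((∑ t ∈ irrFinset S, d t ^ 2 : ℕ) : ℂ) :=
    fun χ hχ => h.res_data (IsIrrCharacter.isCharacter (mem_irrFinset.1 hχ)) (hB χ hχ)
  choose! d hd hdsum hdsq using hnat
  have htot : ∀ t ∈ irrFinset S, ∑ χ ∈ irrFinset G, c χ * d χ t = 1 := by
    intro t ht
    have e : resS S π = ∑ χ ∈ irrFinset G, Cfsg.classInner π χ • resS S χ := by
      funext s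
      have e := congrFun (eq_sum_irr (IsCharacter.isClassFunction hπc)) (s : G)
      rw [Finset.sum_apply] at e
      rw [Finset.sum_apply]
      exact e
    have e2 := hπlin t ht
    rw [e, classInner_sum_left] at e2
    have : ((∑ χ ∈ irrFinset G, c χ * d χ t : ℕ) : ℂ) = 1 := by
      rw [Nat.cast_sum, ← e2]
      exact Finset.sum_congr rfl fun χ hχ => by
        rw [classInner_smul_left, hc χ hχ, hd χ hχ t ht, Nat.cast_mul]
    exact_mod_cast this
  have hone_res : d one (fun _ => 1) = 1 := by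
    have := hd one h1mem _ (mem_irrFinset.2 isIrrCharacter_one)
    rw [show resS S one = fun _ => 1 from rfl, classInner_one_one] at this
    exact_mod_cast this.symm
  have hΘ : ∀ θ ∈ Θ, c θ = 1 ∧ M θ = 0 ∧ V θ = B θ := by
    intro θ hθ
    obtain ⟨hθT, hθc⟩ := Finset.mem_filter.1 hθ
    have hθi := hΘirr θ hθ
    have hle : ∀ t ∈ irrFinset S, c θ * d θ t ≤ 1 := fun t ht =>
      (htot t ht) ▸ Finset.single_le_sum (f := fun χ => c χ * d χ t) (fun _ _ => Nat.zero_le _) hθi
    have hd1 : ∀ t ∈ irrFinset S, d θ t ≤ 1 := fun t ht =>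
      le_trans (Nat.le_mul_of_pos_left _ (Nat.pos_of_ne_zero hθc)) (hle t ht)
    refine ⟨?_, ?_, ?_⟩
    · obtain ⟨t, ht, htd⟩ := Finset.exists_ne_zero_of_sum_ne_zero
        (show ∑ t ∈ irrFinset S, d θ t ≠ 0 by rw [hdsum θ hθi]; exact (hBpos θ hθi).ne')
      have := le_trans (Nat.le_mul_of_pos_right (c θ) (Nat.pos_of_ne_zero htd)) (hle t ht)
      omega
    · have htriv : (fun _ => (1 : ℂ)) ∈ irrFinset S := mem_irrFinset.2 isIrrCharacter_one
      have hM' : M θ = d θ (fun _ => 1) := by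
        have := hM θ hθi
        rw [hd θ hθi _ htriv] at this
        exact_mod_cast this.symm
      have h2 := htot _ htriv
      rw [hsplit, hc1, hone_res] at h2
      have h3 := Finset.single_le_sum (f := fun χ => c χ * d χ (fun _ => 1))
        (fun _ _ => Nat.zero_le _) hθT
      rw [hM']
      have : c θ * d θ (fun _ => 1) = 0 := by omega
      rcases Nat.mul_eq_zero.1 this with h4 | h4
      · exact absurd h4 hθc
      · exact h4
    · have := hV θ hθi
      rw [hdsq θ hθi] at this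
      have h3 : V θ = ∑ t ∈ irrFinset S, d θ t ^ 2 := by exact_mod_cast this.symm
      rw [h3, ← hdsum θ hθi]
      refine Finset.sum_congr rfl fun t ht => ?_
      have := hd1 t ht
      interval_cases d θ t <;> rfl
  -- number of constituents
  have hΘcard : 3 ≤ Θ.card := by
    have h1 : Cfsg.classInner π π = ((∑ χ ∈ irrFinset G, c χ ^ 2 : ℕ) : ℂ) := by
      rw [classInner_eq_sum_irr (IsCharacter.isClassFunction hπc), Nat.cast_sum]
      exact Finset.sum_congr rfl fun χ hχ => by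
        rw [hc χ hχ, Complex.conj_natCast, Nat.cast_pow, sq]
    have h2 : (∑ g : G, Nat.card (MulAction.fixedBy α g) ^ 2 : ℕ)
        = Nat.card G * ∑ χ ∈ irrFinset G, c χ ^ 2 := by
      have h3 : ((∑ g : G, Nat.card (MulAction.fixedBy α g) ^ 2 : ℕ) : ℂ)
          = ((Nat.card G * ∑ χ ∈ irrFinset G, c χ ^ 2 : ℕ) : ℂ) := by
        rw [Nat.cast_mul, ← h1, ← sum_eq_card_mul_classInner, Nat.cast_sum]
        exact Finset.sum_congr rfl fun g _ => by simp [hπ, sq]
      exact_mod_cast h3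
    rw [h2, mul_comm 4] at hrank
    have h4 := Nat.le_of_mul_le_mul_left hrank Nat.card_pos
    have h5 : ∑ χ ∈ T, c χ ^ 2 = Θ.card := by
      rw [Finset.card_eq_sum_ones, Finset.sum_filter]
      refine Finset.sum_congr rfl fun χ hχ => ?_
      by_cases hc0 : c χ = 0
      · simp [hc0]
      · rw [if_pos hc0, (hΘ χ (Finset.mem_filter.2 ⟨hχ, hc0⟩)).1, one_pow]
    rw [hsplit, h5, hc1] at h4
    omega
  have hB1 : B one = 1 := by
    have := hB one h1mem
    simp [hone] at this
    exact_mod_cast this.symm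
  have hBsum : ∑ θ ∈ Θ, B θ = J * l := by
    rw [hsplit, hc1, hB1, h.n_eq] at hdeg
    have : ∑ χ ∈ T, c χ * B χ = ∑ θ ∈ Θ, B θ := by
      rw [Finset.sum_filter]
      refine Finset.sum_congr rfl fun χ hχ => ?_
      by_cases hc0 : c χ = 0
      · simp [hc0]
      · rw [if_pos hc0, (hΘ χ (Finset.mem_filter.2 ⟨hχ, hc0⟩)).1, one_mul]
    omega
  -- every constituent has degree `l`
  have hdegl : ∀ θ ∈ Θ, B θ = l := by
    intro θ hθ
    have hθi := hΘirr θ hθ
    obtain ⟨-, hm0, hv⟩ := hΘ θ hθ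
    obtain ⟨k, hk⟩ := hdiv θ hθi
    rw [hm0, Nat.sub_zero] at hk
    have hk1 : 1 ≤ k := Nat.pos_of_ne_zero fun h0 => by
      have := hBpos θ hθi
      rw [hk, h0, mul_zero] at this
      omega
    have hkJ : k + 2 ≤ J := by
      have h1 : B θ + (Θ.card - 1) * l ≤ J * l := by
        rw [← hBsum, ← Finset.add_sum_erase _ _ hθ, ← Finset.card_erase_of_mem hθ]
        refine Nat.add_le_add_left ?_ _
        refine (le_of_eq (by rw [smul_eq_mul])).trans (Finset.card_nsmul_le_sum _ _ _ fun χ hχ => ?_)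
        have hχ' := Finset.mem_of_mem_erase hχ
        have := hdiv χ (hΘirr χ hχ')
        rw [(hΘ χ hχ').2.1, Nat.sub_zero] at this
        exact Nat.le_of_dvd (hBpos χ (hΘirr χ hχ')) this
      have h2 : l * k + 2 * l ≤ J * l := by
        rw [hk] at h1
        have : 2 * l ≤ (Θ.card - 1) * l := Nat.mul_le_mul_right _ (by omega)
        omega
      have := h.two_le
      nlinarith
    have hb := h.offSum_le (mem_irrFinset.1 hθi)
    rw [h.offSum_eq θ (hB θ hθi) (hV θ hθi), hv, hk] at hb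
    have hb' : (n : ℤ) * ((l * k : ℕ) : ℤ) - ((l * k : ℕ) : ℤ) ^ 2 ≤ (n : ℤ) * l := by
      have : (((n : ℤ) * ((l * k : ℕ) : ℤ) - ((l * k : ℕ) : ℤ) ^ 2 : ℤ) : ℝ)
          ≤ (((n : ℤ) * l : ℤ) : ℝ) := by push_cast at hb ⊢; linarith
      exact_mod_cast this
    rw [hk]
    suffices k = 1 by rw [this, mul_one]
    by_contra hne
    push_cast [h.n_eq] at hb'
    have hl0 : (0 : ℤ) < l := by have := h.two_le; omega
    have h2 : ((J : ℤ) * l + 1) * k - (l : ℤ) * k ^ 2 ≤ (J : ℤ) * l + 1 := by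
      apply le_of_mul_le_mul_left _ hl0
      linarith
    have h4 : (4 : ℤ) ≤ J := by
      have : (2 : ℕ) ≤ k := by omega
      have : (k : ℤ) + 2 ≤ J := by exact_mod_cast hkJ
      omega
    have h5 : (2 : ℤ) ≤ k := by omega
    have h6 : (k : ℤ) + 2 ≤ J := by exact_mod_cast hkJ
    nlinarith [mul_nonneg (mul_nonneg hl0.le (show (0:ℤ) ≤ k - 2 by omega))
      (show (0:ℤ) ≤ J - 2 - k by omega), mul_nonneg hl0.le (show (0:ℤ) ≤ J - 4 by omega)]
  have hΘJ : Θ.card = J := by
    have : ∑ θ ∈ Θ, B θ = Θ.card * l := by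
      rw [Finset.sum_congr rfl hdegl, Finset.sum_const, smul_eq_mul]
    have := h.two_le
    nlinarith
  -- the bound for all other characters
  have hother : ∀ ψ ∈ T, ψ ∉ Θ → (n : ℝ) * V ψ - (B ψ : ℝ) ^ 2 ≤ ((J * l : ℕ) : ℝ) * ((l : ℝ) - 1) := by
    intro ψ hψ hψΘ
    have hψi := Finset.mem_of_mem_erase hψ
    have hcol : ∑ χ ∈ irrFinset G, offSum S χ = ((J * l : ℕ) : ℝ) * n := by
      simp only [offSum]
      rw [Finset.sum_comm]
      have : ∀ s ∈ univ.filter (fun s : S => s ≠ 1), ∑ χ ∈ irrFinset G, ‖χ (s : G)‖ ^ 2 = (n : ℝ) := by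
        intro s hs
        simp only [Finset.mem_filter, Finset.mem_univ, true_and] at hs
        have e := sum_irr_mul_conj (s : G) (s : G)
        rw [if_pos (IsConj.refl _), h.cent s s.2 (fun he => hs (Subtype.ext he)), h.card_eq] at e
        have e2 : ((∑ χ ∈ irrFinset G, ‖χ (s : G)‖ ^ 2 : ℝ) : ℂ) = ((n : ℝ) : ℂ) := by
          push_cast
          rw [← e]
          exact Finset.sum_congr rfl fun χ _ => (Complex.mul_conj' _).symm
        exact_mod_cast e2
      rw [Finset.sum_congr rfl this, Finset.sum_const, nsmul_eq_mul, Finset.filter_ne',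
        Finset.card_erase_of_mem (Finset.mem_univ _), Finset.card_univ, ← Nat.card_eq_fintype_card,
        h.card_eq, h.n_eq, Nat.add_sub_cancel]
    have hnonneg : ∀ χ, 0 ≤ offSum S χ := fun χ => Finset.sum_nonneg fun s _ => by positivity
    have hsub : insert one (insert ψ Θ) ⊆ irrFinset G := by
      intro χ hχ
      rcases Finset.mem_insert.1 hχ with rfl | hχ
      · exact h1mem
      rcases Finset.mem_insert.1 hχ with rfl | hχ
      · exact hψi
      · exact hΘirr χ hχ
    have hle := Finset.sum_le_sum_of_subset_of_nonneg hsub (f := offSum S)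
      (fun χ _ _ => hnonneg χ)
    rw [hcol, Finset.sum_insert, Finset.sum_insert hψΘ] at hle
    swap
    · intro hm
      rcases Finset.mem_insert.1 hm with e | e
      · exact (Finset.mem_erase.1 hψ).1 e.symm
      · exact (Finset.mem_erase.1 (Finset.mem_filter.1 e).1).1 rfl
    have e1 : offSum S one = ((J * l : ℕ) : ℝ) := by
      have hv1 : Cfsg.classInner (resS S one) (resS S one) = ((1 : ℕ) : ℂ) := by
        rw [Nat.cast_one]; exact classInner_one_one
      rw [h.offSum_eq one (b := 1) (by simp [hone]) hv1, h.n_eq]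
      push_cast; ring
    have e2 : ∀ θ ∈ Θ, offSum S θ = (n : ℝ) * l - (l : ℝ) ^ 2 := by
      intro θ hθ
      rw [h.offSum_eq θ (hB θ (hΘirr θ hθ)) (hV θ (hΘirr θ hθ)), (hΘ θ hθ).2.2, hdegl θ hθ]
    rw [e1, Finset.sum_congr rfl e2, Finset.sum_const, hΘJ, nsmul_eq_mul,
      h.offSum_eq ψ (hB ψ hψi) (hV ψ hψi)] at hle
    have hnr : (n : ℝ) = (J : ℝ) * l + 1 := by rw [h.n_eq]; push_cast; ring
    push_cast at hle ⊢
    rw [hnr] at hle ⊢
    linarith
  -- the character `θ * conj θ`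
  obtain ⟨θ, hθ⟩ := Finset.card_pos.1 (show 0 < Θ.card by omega)
  have hθi := hΘirr θ hθ
  have hθirr := mem_irrFinset.1 hθi
  set F : G → ℂ := θ * fun g => conj (θ g) with hF
  have hFc : Cfsg.IsCharacter G F :=
    IsCharacter.mul (IsIrrCharacter.isCharacter hθirr)
      (IsCharacter.conj (IsIrrCharacter.isCharacter hθirr))
  have hF1 : Cfsg.classInner F one = 1 := by
    rw [← IsIrrCharacter.classInner_self hθirr, classInner_def, classInner_def]
    simp [hF, hone]
  have hFS : Cfsg.classInner (resS S F) (fun _ => 1) = (l : ℂ) := by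
    have := hV θ hθi
    rw [(hΘ θ hθ).2.2, hdegl θ hθ] at this
    rw [← this, classInner_def, classInner_def]
    simp [resS, hF]
  have hexF : ∀ χ ∈ irrFinset G, ∃ k : ℕ, Cfsg.classInner F χ = k := fun χ hχ =>
    IsCharacter.exists_classInner_eq_natCast hFc (mem_irrFinset.1 hχ)
  choose! e he using hexF
  have hFexp := eq_sum_irr (IsCharacter.isClassFunction hFc)
  have hsumB : ∑ χ ∈ irrFinset G, e χ * B χ = l ^ 2 := by
    have h1 := congrFun hFexp 1
    have hv : F 1 = ((l ^ 2 : ℕ) : ℂ) := by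
      simp [hF, hB θ hθi, hdegl θ hθ, sq]
    rw [hv, Finset.sum_apply] at h1
    have : ((∑ χ ∈ irrFinset G, e χ * B χ : ℕ) : ℂ) = ((l ^ 2 : ℕ) : ℂ) := by
      rw [Nat.cast_sum, h1]
      exact Finset.sum_congr rfl fun χ hχ => by
        rw [Pi.smul_apply, he χ hχ, hB χ hχ, smul_eq_mul, Nat.cast_mul]
    exact_mod_cast this
  have hsumM : ∑ χ ∈ irrFinset G, e χ * M χ = l := by
    have hr : resS S F = ∑ χ ∈ irrFinset G, Cfsg.classInner F χ • resS S χ := by
      funext s
      have e := congrFun hFexp (s : G)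
      rw [Finset.sum_apply] at e
      rw [Finset.sum_apply]
      exact e
    rw [hr, classInner_sum_left] at hFS
    have : ((∑ χ ∈ irrFinset G, e χ * M χ : ℕ) : ℂ) = l := by
      rw [Nat.cast_sum, ← hFS]
      exact Finset.sum_congr rfl fun χ hχ => by
        rw [classInner_smul_left, he χ hχ, hM χ hχ, Nat.cast_mul]
    exact_mod_cast this
  have he1 : e one = 1 := by
    have := he one h1mem
    rw [hF1] at this
    exact_mod_cast this.symm
  have hM1 : M one = 1 := by
    have := hM one h1mem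
    rw [show resS S one = fun _ => 1 from rfl, classInner_one_one] at this
    exact_mod_cast this.symm
  rw [hsplit, he1, hB1] at hsumB
  rw [hsplit, he1, hM1] at hsumM
  -- each summand has `B ≥ (l+1) M`, strictly when `M > 0`
  have hbig : ∀ ψ ∈ T, 0 < e ψ * M ψ → (l + 1) * (e ψ * M ψ) < e ψ * B ψ := by
    intro ψ hψ hpos
    have hψi := Finset.mem_of_mem_erase hψ
    have he0 : 0 < e ψ := Nat.pos_of_mul_pos_right hpos
    have hM0 : 0 < M ψ := Nat.pos_of_mul_pos_left hpos
    rw [show (l + 1) * (e ψ * M ψ) = e ψ * ((l + 1) * M ψ) by ring]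
    refine (Nat.mul_lt_mul_left he0).2 ?_
    have hψΘ : ψ ∉ Θ := fun hh => hM0.ne' (hΘ ψ hh).2.1
    have hMl : M ψ + 1 ≤ l := by
      have := Finset.single_le_sum (f := fun χ => e χ * M χ) (fun _ _ => Nat.zero_le _) hψ
      have : M ψ ≤ e ψ * M ψ := Nat.le_mul_of_pos_left _ he0
      omega
    obtain ⟨s, hs⟩ := hdiv ψ hψi
    have hMb := hMB ψ hψi
    have hs1 : 1 ≤ s := Nat.pos_of_ne_zero fun h0 => by
      rw [h0, mul_zero] at hs
      have hbm : B ψ = M ψ := by omega
      exact (Finset.mem_erase.1 hψ).1 (h.eq_one_of_res (mem_irrFinset.1 hψi) (hB ψ hψi)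
        (by rw [hM ψ hψi, hbm]))
    by_contra hle
    push Not at hle
    have hsm : s ≤ M ψ := by
      by_contra hc
      have hbs : B ψ = M ψ + l * s := by omega
      have : l * (M ψ + 1) ≤ l * s := Nat.mul_le_mul_left l (by omega)
      have := h.two_le
      nlinarith
    have hVψ := hVge ψ hψi
    have hb := hother ψ hψ hψΘ
    have hb' : (n : ℤ) * V ψ - (B ψ : ℤ) ^ 2 ≤ ((J * l : ℕ) : ℤ) * ((l : ℤ) - 1) := by
      have : (((n : ℤ) * V ψ - (B ψ : ℤ) ^ 2 : ℤ) : ℝ)
          ≤ ((((J * l : ℕ) : ℤ) * ((l : ℤ) - 1) : ℤ) : ℝ) := by push_cast at hb ⊢; linarith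
      exact_mod_cast this
    have hBs : (B ψ : ℤ) = M ψ + s * l := by
      have : B ψ = M ψ + l * s := by omega
      rw [this]; push_cast; ring
    have hA := arith (m := (M ψ : ℤ)) (s := (s : ℤ)) (l := (l : ℤ)) (J := (J : ℤ))
      (by exact_mod_cast h.two_le) (by exact_mod_cast h.three_le) (by exact_mod_cast h.l_le)
      (by exact_mod_cast hM0) (by omega) (by exact_mod_cast hs1) (by exact_mod_cast hsm)
    have hV' : (M ψ : ℤ) ^ 2 + s * l ≤ V ψ := by
      rw [hs] at hVψ
      have : ((M ψ ^ 2 + l * s : ℕ) : ℤ) ≤ V ψ := by exact_mod_cast hVψ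
      push_cast at this; linarith
    have hn : (n : ℤ) = (J : ℤ) * l + 1 := by rw [h.n_eq]; push_cast; ring
    rw [hn, hBs] at hb'
    push_cast at hb'
    have : ((J : ℤ) * l + 1) * ((M ψ : ℤ) ^ 2 + s * l) ≤ ((J : ℤ) * l + 1) * V ψ :=
      mul_le_mul_of_nonneg_left hV' (by positivity)
    linarith
  have hlt : (l + 1) * ∑ ψ ∈ T, e ψ * M ψ < ∑ ψ ∈ T, e ψ * B ψ := by
    rw [Finset.mul_sum]
    apply Finset.sum_lt_sum
    · intro ψ hψ
      rcases Nat.eq_zero_or_pos (e ψ * M ψ) with h0 | h0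
      · rw [h0, mul_zero]; exact Nat.zero_le _
      · exact (hbig ψ hψ h0).le
    · obtain ⟨ψ, hψ, hne⟩ := Finset.exists_ne_zero_of_sum_ne_zero
        (show ∑ ψ ∈ T, e ψ * M ψ ≠ 0 by have := h.two_le; omega)
      exact ⟨ψ, hψ, hbig ψ hψ (Nat.pos_of_ne_zero hne)⟩
  have hl2 := h.two_le
  have hT1 : ∑ ψ ∈ T, e ψ * M ψ = l - 1 := by omega
  rw [hT1] at hlt
  have : (l + 1) * (l - 1) + 1 = l ^ 2 := by
    obtain ⟨w, rfl⟩ : ∃ w, l = w + 1 := ⟨l - 1, by omega⟩
    simp; ring
  omega

end TISub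

end Derange5732
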