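import Cfsg.Agent.Derange5732.Semiregular

/-!
# The subgroup generated by the derangements
-/

set_option autoImplicit false

namespace Derange5732

open scoped Classical
open MulAction

universe u v

theorem base_of_derangements (G : Type u) (Ω : Type v) [Group G] [Finite G] [MulAction G Ω]
    [FaithfulSMul G Ω] [Fintype Ω] (hG : IsPretransitive G Ω) (hn2 : 2 ≤ Nat.card Ω) :
    Base G Ω (Subgroup.closure {g : G | ∀ ω : Ω, g • ω ≠ ω}) := by
  set D := Subgroup.closure {g : G | ∀ ω : Ω, g • ω ≠ ω}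
  have hDn : D.Normal := by
    rw [← Subgroup.normalizer_eq_top_iff, eq_top_iff, Subgroup.le_normalizer_closure_iff]
    intro g _ x hx
    refine Subgroup.subset_closure fun w hw => hx (g⁻¹ • w) ?_
    rw [mul_smul, mul_smul] at hw
    exact eq_inv_smul_iff.2 hw
  obtain ⟨ω⟩ : Nonempty Ω := (Nat.card_pos_iff.1 (by omega)).1
  have hout : ∀ g : G, g ∉ D → ∃ x : Ω, g • x = x := by
    intro g hg
    by_contra hc
    push Not at hc
    exact hg (Subgroup.subset_closure hc)
  have : Fintype G := Fintype.ofFinite G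
  -- `D` is transitive
  have htrD : ∀ x y : Ω, ∃ d ∈ D, d • x = y := by
    intro x y
    by_contra hc
    push Not at hc
    have hdisj : y ∉ orbit D x := fun ⟨d, hd⟩ => hc d d.2 hd
    have hcap : ∀ z : Ω, ∑ g ∈ Finset.univ.filter (· ∈ D), nfix (orbit D z) g = Nat.card D :=
      fun z => sum_nfix_of_trans D (orbit D z) ⟨z, mem_orbit_self z⟩
        (fun g hg w hw => by
          obtain ⟨k, rfl⟩ := hw
          exact ⟨⟨g, hg⟩ * k, mul_smul _ _ _⟩)
        (fun w hw w' hw' => by
          obtain ⟨k, rfl⟩ := hw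
          obtain ⟨k', rfl⟩ := hw'
          refine ⟨k'.1 * k.1⁻¹, D.mul_mem k'.2 (D.inv_mem k.2), ?_⟩
          show (k'.1 * k.1⁻¹) • k.1 • z = k'.1 • z
          rw [mul_smul, inv_smul_smul])
    have hle : ∀ g : G, nfix (orbit D x) g + nfix (orbit D y) g ≤ nfix (Set.univ : Set Ω) g := by
      intro g
      have hd : Disjoint (orbit D x) (orbit D y) := by
        rw [Set.disjoint_left]
        intro w hw hw'
        exact hdisj (by rw [← orbit_eq_iff.2 hw, orbit_eq_iff.2 hw']; exact mem_orbit_self y)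
      rw [nfix, nfix, nfix, ← Set.ncard_union_eq (hd.mono (fun _ h => h.1) (fun _ h => h.1))]
      refine Set.ncard_le_ncard ?_
      rintro w (⟨-, hw⟩ | ⟨-, hw⟩) <;> exact ⟨trivial, hw⟩
    have h1 := Finset.sum_le_sum (fun g (_ : g ∈ Finset.univ.filter (· ∈ D)) => hle g)
    rw [Finset.sum_add_distrib, hcap, hcap] at h1
    have h2 : ∑ g ∈ Finset.univ.filter (· ∈ (⊤ : Subgroup G)), nfix (Set.univ : Set Ω) g
        = Nat.card (⊤ : Subgroup G) :=
      sum_nfix_of_trans ⊤ Set.univ ⟨ω, trivial⟩ (fun _ _ _ _ => trivial)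
        (fun w _ w' _ => let ⟨g, hg⟩ := MulAction.exists_smul_eq G w w'; ⟨g, trivial, hg⟩)
    rw [filter_mem_sdiff D ⊤, top_inf_eq] at h2
    have h3 := card_filter_sdiff D (⊤ : Subgroup G)
    rw [top_inf_eq] at h3
    have h4 : (Finset.univ.filter (fun g : G => g ∈ (⊤ : Subgroup G) ∧ g ∉ D)).card
        ≤ ∑ g ∈ Finset.univ.filter (fun g : G => g ∈ (⊤ : Subgroup G) ∧ g ∉ D),
            nfix (Set.univ : Set Ω) g := by
      rw [Finset.card_eq_sum_ones]
      refine Finset.sum_le_sum fun g hg => ?_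
      obtain ⟨w, hw⟩ := hout g (Finset.mem_filter.1 hg).2.2
      exact (Set.ncard_pos).2 ⟨w, trivial, hw⟩
    have : 0 < Nat.card D := Nat.card_pos
    omega
  exact ⟨fix1On_of_bound hDn (cov_top D) ⟨ω, trivial⟩
      (fun _ _ _ _ => trivial)
      (fun x _ y _ => let ⟨d, hd, e⟩ := htrD x y; ⟨d, ⟨trivial, hd⟩, e⟩)
      (Or.inr fun g _ hg => let ⟨x, hx⟩ := hout g hg; ⟨x, trivial, hx⟩),
    fun g hg => FaithfulSMul.eq_of_smul_eq_smul (α := Ω) (fun x => by rw [hg, one_smul]), hn2⟩

theorem derangements_dichotomy (G : Type u) (Ω : Type v) [Group G] [Finite G] [MulAction G Ω]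
    [FaithfulSMul G Ω] [Fintype Ω] (hG : IsPretransitive G Ω) (hN : 2 ^ 256 ≤ Fintype.card Ω) :
    FrobPrim G Ω ∨
      ((Subgroup.closure {g : G | ∀ ω : Ω, g • ω ≠ ω}).index : ℝ)
        ≤ Real.sqrt (Fintype.card Ω) - 1 := by
  set D := Subgroup.closure {g : G | ∀ ω : Ω, g • ω ≠ ω}
  have hbase : Base G Ω D := base_of_derangements G Ω hG (by
    rw [Nat.card_eq_fintype_card]
    exact le_trans (by norm_num) hN)
  rcases hbase.main (by rwa [Nat.card_eq_fintype_card]) with hle | hF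
  · right
    rw [le_sub_iff_add_le]
    refine Real.le_sqrt_of_sq_le ?_
    rw [Nat.card_eq_fintype_card] at hle
    exact_mod_cast hle
  · exact Or.inl hF

end Derange5732
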