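import Cfsg.Agent.Derange5732.Main
import Cfsg.Agent.Derange5732.Linear.MaxBad

/-!
# The derangement subgroup when there is no abelian normal subgroup, in every degree
-/

set_option autoImplicit false

namespace Derange5732

open scoped Classical Pointwise
open MulAction

universe u v

variable {G : Type u} [Group G] [Finite G] {α : Type v} [MulAction G α] [Finite α]

/-- A subgroup all whose orbits on `F` have length at most two. -/
theorem card_dvd_two_pow (K : Subgroup G) (F : Finset α)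
    (h2 : ∀ x ∈ F, (orbit K x).ncard ≤ 2) :
    ∃ K' ≤ K, (∀ g ∈ K', ∀ x ∈ F, g • x = x) ∧ Nat.card K ∣ 2 ^ F.card * Nat.card K' := by
  induction F using Finset.induction_on with
  | empty => exact ⟨K, le_rfl, by simp, by simp⟩
  | insert a F ha ih =>
    obtain ⟨K', hle, hfix, hdvd⟩ := ih fun x hx => h2 x (Finset.mem_insert_of_mem hx)
    refine ⟨K' ⊓ stabilizer G a, inf_le_left.trans hle, ?_, ?_⟩
    · intro g hg x hx
      rcases Finset.mem_insert.1 hx with rfl | hx
      · exact hg.2
      · exact hfix g hg.1 x hx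
    · refine hdvd.trans ?_
      rw [Finset.card_insert_of_notMem ha, pow_succ, mul_assoc]
      refine Nat.mul_dvd_mul_left _ ?_
      rw [← card_orbit_mul_card_inf K' a]
      refine Nat.mul_dvd_mul_right ?_ _
      have h1 : (orbit K' a).ncard ≤ 2 := by
        refine le_trans (Set.ncard_le_ncard ?_) (h2 a (Finset.mem_insert_self a F))
        rintro _ ⟨g, rfl⟩
        exact ⟨⟨g.1, hle g.2⟩, rfl⟩
      have h0 : 0 < (orbit K' a).ncard := (Set.ncard_pos).2 ⟨a, mem_orbit_self a⟩
      interval_cases (orbit K' a).ncard <;> norm_num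

namespace Reg

variable {D S : Subgroup G} {ω : α} {p : ℕ} (h : Base G α D) (r : Reg G α D S ω p)

include r in
/-- A non-trivial element of `A` fixes only `ω`. -/
theorem eq_one_of_fix_ne (hsr : ∀ a ∈ Subgroup.normalizer (S : Set G) ⊓ stabilizer G ω,
    ∀ s ∈ S, s ≠ 1 → a * s = s * a → a = 1) {v : G}
    (hv : v ∈ Subgroup.normalizer (S : Set G) ⊓ stabilizer G ω) {x : α} (hx : x ≠ ω)
    (hvx : v • x = x) : v = 1 := by
  obtain ⟨s, hs, rfl⟩ := r.exists_smul_eq x
  have hv2 : v • ω = ω := hv.2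
  have hvS : v * s * v⁻¹ ∈ S := Subgroup.le_normalizer_iff.1 (le_refl _) v hv.1 s hs
  have h1 : s⁻¹ * (v * s * v⁻¹) = 1 := by
    refine r.eq_one_of_fix (S.mul_mem (S.inv_mem hs) hvS) (x := ω) ?_
    rw [mul_smul, mul_smul, mul_smul, inv_smul_eq_iff.2 hv2.symm, hvx, inv_smul_smul]
  exact hsr v hv s hs (fun he => hx (by rw [he, one_smul]))
    (mul_inv_eq_iff_eq_mul.1 (inv_mul_eq_one.1 h1).symm)

include h r in
/-- `D ⊓ N(S)` when `S` is self-normalising. -/
theorem norm_of_trivial (hl : D ⊓ Subgroup.normalizer (S : Set G) ⊓ stabilizer G ω = ⊥) :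
    D ≤ Subgroup.normalizer (S : Set G) := by
  have hDS : D = S := r.eq_of_self_normalizing h le_rfl r.le fun x hx => by
    obtain ⟨s, hs, hsω⟩ := r.exists_smul_eq (x • ω)
    have h1 : s⁻¹ * x ∈ D ⊓ Subgroup.normalizer (S : Set G) ⊓ stabilizer G ω :=
      ⟨⟨D.mul_mem (D.inv_mem (r.le hs)) hx.1,
        Subgroup.mul_mem _ (Subgroup.le_normalizer (S.inv_mem hs)) hx.2⟩, by
        show (s⁻¹ * x) • ω = ω
        rw [mul_smul, ← hsω, inv_smul_smul]⟩
    rw [hl, Subgroup.mem_bot, inv_mul_eq_one] at h1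
    exact h1 ▸ hs
  exact hDS.le.trans Subgroup.le_normalizer

include h r in
/-- Sylow: `|D_ω| / |N_D(S)_ω|` is congruent to one modulo `p`. -/
theorem sylow_count :
    ∃ e, Nat.card ↥(D ⊓ stabilizer G ω)
        = e * Nat.card ↥(D ⊓ Subgroup.normalizer (S : Set G) ⊓ stabilizer G ω) ∧
      e % p = 1 ∧ (e = 1 → D ≤ Subgroup.normalizer (S : Set G)) := by
  have := Fact.mk r.pp
  obtain ⟨a, ha⟩ := r.isPow
  let P : Sylow p D := Sylow.ofCard (S.subgroupOf D) (by
    rw [Nat.card_congr (Subgroup.subgroupOfEquivOfLe r.le).toEquiv, r.card_eq, ← h.card_inf_stab ω,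
      Nat.factorization_mul (by have := h.two_le; omega) Nat.card_pos.ne', Finsupp.add_apply,
      Nat.factorization_eq_zero_of_not_dvd r.coprime, add_zero, ha, r.pp.factorization_pow,
      Finsupp.single_eq_same])
  set N := Subgroup.normalizer ((P : Subgroup D) : Set D)
  have hNmem : ∀ x : D, x ∈ N ↔ x.1 ∈ Subgroup.normalizer (S : Set G) := by
    intro x
    constructor
    · intro hx
      rw [Subgroup.mem_normalizer_iff_map_conj_eq]
      apply Subgroup.eq_of_le_of_card_ge
      · rintro _ ⟨s, hs, rfl⟩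
        exact (Subgroup.mem_normalizer_iff.1 hx ⟨s, r.le hs⟩).1 hs
      · rw [Subgroup.card_map_of_injective (MulEquiv.injective _)]
    · intro hx
      rw [Subgroup.mem_normalizer_iff]
      intro t
      exact Subgroup.mem_normalizer_iff.1 hx t.1
  have hN : Nat.card N = Nat.card α
      * Nat.card ↥(D ⊓ Subgroup.normalizer (S : Set G) ⊓ stabilizer G ω) := by
    rw [dvd_card_of_trans (r.trans.mono (le_inf r.le Subgroup.le_normalizer)) ω]
    exact Nat.card_congr ⟨fun x => ⟨x.1.1, x.1.2, (hNmem x.1).1 x.2⟩,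
      fun x => ⟨⟨x.1, x.2.1⟩, (hNmem _).2 x.2.2⟩, fun _ => rfl, fun _ => rfl⟩
  refine ⟨N.index, ?_, ?_, ?_⟩
  · apply Nat.eq_of_mul_eq_mul_left (show 0 < Nat.card α by have := h.two_le; omega)
    rw [h.card_inf_stab ω, ← Subgroup.card_mul_index N, hN]
    ring
  · rw [show N.index = Nat.card (Sylow p D) from P.card_eq_index_normalizer.symm]
    have := card_sylow_modEq_one p D
    rw [Nat.ModEq, Nat.one_mod_eq_one.2 r.pp.one_lt.ne'] at this
    exact this
  · intro he d hd
    exact (hNmem ⟨d, hd⟩).1 (Subgroup.index_eq_one.1 he ▸ Subgroup.mem_top _)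

include h r in
/-- The orbits of `D_ω` are short. -/
theorem card_orbit_stab_le {x : α} (hx : x ≠ ω) :
    D.index * (orbit ↥(D ⊓ stabilizer G ω) x).ncard + 1 ≤ Nat.card α := by
  set H := stabilizer G ω
  have e := h.fix1.card_orbit_eq le_top (h.cov_stab ω) (a := ω) (δ := x) trivial trivial
    (fun g hg => hg) hx
  have hle : (orbit H x).ncard + 1 ≤ Nat.card α := by
    rw [← Set.ncard_univ, ← Set.ncard_insert_of_notMem (a := ω) (s := orbit H x)]
    · exact Set.ncard_le_ncard (Set.subset_univ _)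
    · rintro ⟨g, hg⟩
      apply hx
      exact smul_left_cancel g.1 (show g.1 • x = g.1 • ω from hg.trans g.2.symm)
  have : (orbit ↥(D ⊓ H) x).ncard ≤ (orbit ↥(H ⊓ D) x).ncard := by rw [inf_comm]
  calc D.index * (orbit ↥(D ⊓ H) x).ncard + 1 ≤ D.index * (orbit ↥(H ⊓ D) x).ncard + 1 :=
        Nat.add_le_add_right (Nat.mul_le_mul_left _ this) 1
    _ = (orbit H x).ncard + 1 := by rw [e]
    _ ≤ _ := hle

include h r in
/-- Degree seven. -/
theorem norm_seven (hsr : ∀ a ∈ Subgroup.normalizer (S : Set G) ⊓ stabilizer G ω,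
    ∀ s ∈ S, s ≠ 1 → a * s = s * a → a = 1) (hn : Nat.card α = 7)
    (hl : Nat.card ↥(D ⊓ Subgroup.normalizer (S : Set G) ⊓ stabilizer G ω) = 3)
    (h3 : ∀ x, x ≠ ω → (orbit ↥(D ⊓ stabilizer G ω) x).ncard ≤ 3) :
    D ≤ Subgroup.normalizer (S : Set G) := by
  obtain ⟨e, he, hmod, hone⟩ := r.sylow_count h
  have hp : p = 7 := by
    obtain ⟨a, ha⟩ := r.isPow
    rw [hn] at ha
    exact ((Nat.prime_dvd_prime_iff_eq r.pp (by norm_num)).1
      (ha ▸ dvd_pow_self p (by rintro rfl; simp at ha)))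
  set K := D ⊓ stabilizer G ω
  set L := D ⊓ Subgroup.normalizer (S : Set G) ⊓ stabilizer G ω
  obtain ⟨⟨g, hgL⟩, hg⟩ := exists_prime_orderOf_dvd_card' (G := L) 3 (hl ▸ dvd_rfl) (hp := ⟨by norm_num⟩)
  have hgo : orderOf g = 3 := by rw [← hg, Subgroup.orderOf_mk]
  have hg3 : g ^ 3 = 1 := hgo ▸ pow_orderOf_eq_one g
  have hgA : g ∈ Subgroup.normalizer (S : Set G) ⊓ stabilizer G ω := ⟨hgL.1.2, hgL.2⟩
  have hgK : g ∈ K := ⟨hgL.1.1, hgL.2⟩
  have hgω : g • ω = ω := hgL.2
  have hg1 : g ≠ 1 := fun h1 => by rw [h1, orderOf_one] at hgo; omega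
  have hg2 : g ^ 2 ≠ 1 := fun h1 => by
    have := orderOf_dvd_of_pow_eq_one h1
    rw [hgo] at this
    norm_num at this
  -- orbits of `g`
  have hmove : ∀ x, x ≠ ω → g • x ≠ x ∧ g • g • x ≠ x ∧ g • g • x ≠ g • x ∧ g • x ≠ ω ∧
      g • g • g • x = x := by
    intro x hx
    have h1 : g • x ≠ x := fun hc => hg1 (r.eq_one_of_fix_ne hsr hgA hx hc)
    refine ⟨h1, fun hc => hg2 (r.eq_one_of_fix_ne hsr (Subgroup.pow_mem _ hgA 2) hx ?_),
      fun hc => h1 (smul_left_cancel g hc), fun hc => hx (smul_left_cancel g (hc.trans hgω.symm)), ?_⟩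
    · rw [pow_two, mul_smul, hc]
    · rw [← mul_smul, ← mul_smul, show g * g * g = g ^ 3 by rw [pow_succ, pow_two], hg3, one_smul]
  have horb3 : ∀ x, x ≠ ω → orbit K x = {x, g • x, g • g • x} := by
    intro x hx
    obtain ⟨h1, h2, h12, -, -⟩ := hmove x hx
    symm
    refine Set.eq_of_subset_of_ncard_le ?_ ?_ (Set.toFinite _)
    · rintro y (rfl | rfl | rfl)
      · exact mem_orbit_self _
      · exact ⟨⟨g, hgK⟩, rfl⟩
      · exact ⟨⟨g * g, K.mul_mem hgK hgK⟩, mul_smul g g x⟩
    · rw [Set.ncard_insert_of_notMem (by simp [Ne.symm h1, Ne.symm h2]),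
        Set.ncard_pair (Ne.symm h12)]
      exact h3 x hx
  -- base points
  obtain ⟨a, ha⟩ : ∃ a : α, a ≠ ω := by
    have : Nontrivial α := Finite.one_lt_card_iff_nontrivial.1 (by omega)
    exact exists_ne ω
  obtain ⟨ha1, ha2, ha12, haω, ha3⟩ := hmove a ha
  obtain ⟨b, hb⟩ : ∃ b : α, b ∉ ({ω, a, g • a, g • g • a} : Set α) := by
    by_contra hc
    push Not at hc
    have h1 : Nat.card α ≤ ({ω, a, g • a, g • g • a} : Set α).ncard := by
      rw [← Set.ncard_univ]
      exact Set.ncard_le_ncard fun x _ => hc x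
    have h2 : ({ω, a, g • a, g • g • a} : Set α).ncard ≤ 4 := by
      refine (Set.ncard_insert_le _ _).trans (Nat.succ_le_succ ?_)
      refine (Set.ncard_insert_le _ _).trans (Nat.succ_le_succ ?_)
      exact (Set.ncard_insert_le _ _).trans (Nat.succ_le_succ (le_of_eq (Set.ncard_singleton _)))
    omega
  simp only [Set.mem_insert_iff, Set.mem_singleton_iff, not_or] at hb
  obtain ⟨hbω, hba, hba1, hba2⟩ := hb
  obtain ⟨hb1, hb2, hb12, hgbω, hb3⟩ := hmove b hbω
  -- all points
  have hall : ∀ x : α, x = ω ∨ x ∈ orbit K a ∨ x ∈ orbit K b := by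
    intro x
    have hd : Disjoint (orbit K a) (orbit K b) := by
      rw [Set.disjoint_left]
      intro y hy hy'
      have : b ∈ orbit K a := by
        rw [← orbit_eq_iff.2 hy, orbit_eq_iff.2 hy']; exact mem_orbit_self b
      rw [horb3 a ha] at this
      rcases this with e | e | e
      · exact hba e
      · exact hba1 e
      · exact hba2 e
    have hω : ∀ y, y ≠ ω → ω ∉ orbit K y := by
      intro y hy hm
      rw [horb3 y hy] at hm
      rcases hm with e | e | e
      · exact hy e.symm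
      · exact (hmove y hy).2.2.2.1 e.symm
      · exact (hmove _ (hmove y hy).2.2.2.1).2.2.2.1 e.symm
    by_contra hc
    push Not at hc
    have h1 : ({x, ω} : Set α).ncard + (orbit K a ∪ orbit K b).ncard ≤ Nat.card α := by
      rw [← Set.ncard_union_eq, ← Set.ncard_univ]
      · exact Set.ncard_le_ncard (Set.subset_univ _)
      · rw [Set.disjoint_left]
        rintro y (rfl | rfl) (hy | hy)
        · exact hc.2.1 hy
        · exact hc.2.2 hy
        · exact hω a ha hy
        · exact hω b hbω hy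
    rw [Set.ncard_pair hc.1, Set.ncard_union_eq hd, horb3 a ha, horb3 b hbω,
      Set.ncard_insert_of_notMem (by simp [Ne.symm ha1, Ne.symm ha2]), Set.ncard_pair (Ne.symm ha12),
      Set.ncard_insert_of_notMem (by simp [Ne.symm hb1, Ne.symm hb2]), Set.ncard_pair (Ne.symm hb12)]
      at h1
    omega
  -- the chain
  set K1 := K ⊓ stabilizer G a
  set K2 := K1 ⊓ stabilizer G (g • a)
  have hK1 : ∀ k ∈ K1, k ∈ K ∧ k • a = a := fun k hk => ⟨hk.1, hk.2⟩
  have hK2a : ∀ k ∈ K2, k • g • g • a = g • g • a := by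
    intro k hk
    have hm : k • g • g • a ∈ orbit K a := by
      refine ⟨⟨k * (g * g), K.mul_mem hk.1.1 (K.mul_mem hgK hgK)⟩, ?_⟩
      show (k * (g * g)) • a = _
      rw [mul_smul, mul_smul]
    rw [horb3 a ha] at hm
    rcases hm with e | e | e
    · exact absurd (smul_left_cancel k (e.trans (hk.1.2 : k • a = a).symm)) ha2
    · exact absurd (smul_left_cancel k (e.trans (hk.2 : k • g • a = g • a).symm)) ha12
    · exact e
  have hO2 : ∀ k ∈ K2, ∀ y ∈ orbit K b, k • y ∈ orbit K b := by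
    rintro k hk _ ⟨q, rfl⟩
    exact ⟨⟨k, hk.1.1⟩ * q, mul_smul k q.1 b⟩
  -- `g` normalises `K2`
  have hgK2 : ∀ k ∈ K2, g * k * g⁻¹ ∈ K2 := by
    intro k hk
    have i1 : g⁻¹ • a = g • g • a := inv_smul_eq_iff.2 ha3.symm
    refine ⟨⟨K.mul_mem (K.mul_mem hgK hk.1.1) (K.inv_mem hgK), ?_⟩, ?_⟩
    · show (g * k * g⁻¹) • a = a
      rw [mul_smul, mul_smul, i1, hK2a k hk, ha3]
    · show (g * k * g⁻¹) • g • a = g • a
      rw [mul_smul, mul_smul, inv_smul_smul, (hk.1.2 : k • a = a)]
  have hKdvd : Nat.card K = (orbit K a).ncard * ((orbit K1 (g • a)).ncard * Nat.card K2) := by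
    rw [card_orbit_mul_card_inf K1 (g • a), card_orbit_mul_card_inf K a]
  have ho2 : (orbit K1 (g • a)).ncard ≤ 2 := by
    refine le_trans (Set.ncard_le_ncard (t := {g • a, g • g • a}) ?_) ?_
    · rintro _ ⟨k, rfl⟩
      have hm : k.1 • g • a ∈ orbit K a := ⟨⟨k.1 * g, K.mul_mem k.2.1 hgK⟩, mul_smul k.1 g a⟩
      rw [horb3 a ha] at hm
      rcases hm with e | e | e
      · exact absurd (smul_left_cancel k.1 (e.trans (k.2.2 : k.1 • a = a).symm)) ha1
      · exact Or.inl e
      · exact Or.inr e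
    · exact le_of_eq (Set.ncard_pair (Ne.symm ha12))
  have hoa : (orbit K a).ncard = 3 := by
    rw [horb3 a ha, Set.ncard_insert_of_notMem (by simp [Ne.symm ha1, Ne.symm ha2]),
      Set.ncard_pair (Ne.symm ha12)]
  rcases eq_or_ne K2 ⊥ with hK2 | hK2
  · -- small stabiliser
    rw [hK2, Subgroup.card_bot, mul_one, hoa] at hKdvd
    rw [hKdvd, hl] at he
    have : e ≤ 2 := by nlinarith
    refine hone ?_
    interval_cases e <;> simp_all
  -- `K2` is transitive on the other orbit
  have hmv : ∃ k ∈ K2, k • b ≠ b := by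
    by_contra hc
    push Not at hc
    apply hK2
    rw [eq_bot_iff]
    intro k hk
    refine Subgroup.mem_bot.2 (h.faithful k fun x => ?_)
    rcases hall x with rfl | hx | hx
    · exact hk.1.1.2
    · rw [horb3 a ha] at hx
      rcases hx with rfl | rfl | rfl
      · exact hk.1.2
      · exact hk.2
      · exact hK2a k hk
    · rw [horb3 b hbω] at hx
      have i1 : ∀ q ∈ K2, q • g • b = g • b := by
        intro q hq
        have i4 := hc _ (hgK2 _ (hgK2 q hq))
        have i6 : g⁻¹ • b = g • g • b := inv_smul_eq_iff.2 hb3.symm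
        rw [mul_smul, mul_smul, mul_smul, mul_smul, i6, inv_smul_smul] at i4
        have i7 := congrArg (fun y => g⁻¹ • g⁻¹ • y) i4
        simp only [inv_smul_smul] at i7
        rw [i7, i6, inv_smul_smul]
      have i5 : ∀ q ∈ K2, q • g • g • b = g • g • b := by
        intro q hq
        have i4 := hc _ (hgK2 q hq)
        rw [mul_smul, mul_smul] at i4
        have i6 : g⁻¹ • b = g • g • b := inv_smul_eq_iff.2 hb3.symm
        rw [i6] at i4
        have i7 := congrArg (fun y => g⁻¹ • y) i4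
        simp only [inv_smul_smul] at i7
        rw [i7, i6]
      rcases hx with rfl | rfl | rfl
      · exact hc k hk
      · exact i1 k hk
      · exact i5 k hk
  have ho3 : (orbit K2 b).ncard = 3 := by
    obtain ⟨k, hk, hkb⟩ := hmv
    have hsub : orbit K2 b ⊆ orbit K b := by
      rintro _ ⟨q, rfl⟩
      exact hO2 q.1 q.2 b (mem_orbit_self b)
    have hshift : ∀ y ∈ orbit K2 b, g • y ∈ orbit K2 (g • b) := by
      rintro _ ⟨q, rfl⟩
      exact ⟨⟨g * q.1 * g⁻¹, hgK2 q.1 q.2⟩, by
        show (g * q.1 * g⁻¹) • g • b = g • q.1 • b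
        rw [mul_smul, mul_smul, inv_smul_smul]⟩
    have hkm : k • b ∈ orbit K2 b := ⟨⟨k, hk⟩, rfl⟩
    have hgb : g • b ∈ orbit K2 b := by
      have hm := hsub hkm
      rw [horb3 b hbω] at hm
      rcases hm with e | e | e
      · exact absurd e hkb
      · exact e ▸ hkm
      · have h1 : g • g • b ∈ orbit K2 b := e ▸ hkm
        have h2 := hshift _ h1
        rw [hb3] at h2
        have h3 : g • b ∈ orbit K2 b := by
          rw [orbit_eq_iff.2 h2]; exact mem_orbit_self _
        exact h3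
    have hg2b : g • g • b ∈ orbit K2 b := by
      rw [← orbit_eq_iff.2 hgb]; exact hshift _ hgb
    refine le_antisymm ((Set.ncard_le_ncard hsub).trans (h3 b hbω)) ?_
    have : ({b, g • b, g • g • b} : Set α) ⊆ orbit K2 b := by
      rintro y (rfl | rfl | rfl)
      · exact mem_orbit_self _
      · exact hgb
      · exact hg2b
    refine le_trans (le_of_eq ?_) (Set.ncard_le_ncard this)
    rw [Set.ncard_insert_of_notMem (by simp [Ne.symm hb1, Ne.symm hb2]),
      Set.ncard_pair (Ne.symm hb12)]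
  set K3 := K2 ⊓ stabilizer G b
  have hK3 : Nat.card K3 ≤ 2 := by
    set K4 := K3 ⊓ stabilizer G (g • b)
    have hK4 : Nat.card K4 = 1 := by
      rw [Subgroup.card_eq_one, eq_bot_iff]
      intro k hk
      refine Subgroup.mem_bot.2 (h.faithful k fun x => ?_)
      have h2 : k ∈ K2 := hk.1.1
      rcases hall x with rfl | hx | hx
      · exact h2.1.1.2
      · rw [horb3 a ha] at hx
        rcases hx with rfl | rfl | rfl
        · exact h2.1.2
        · exact h2.2
        · exact hK2a k h2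
      · rw [horb3 b hbω] at hx
        rcases hx with rfl | rfl | rfl
        · exact hk.1.2
        · exact hk.2
        · have hm := hO2 k h2 (g • g • b) (by rw [horb3 b hbω]; simp)
          rw [horb3 b hbω] at hm
          rcases hm with e | e | e
          · exact absurd (smul_left_cancel k (e.trans (hk.1.2 : k • b = b).symm)) hb2
          · exact absurd (smul_left_cancel k (e.trans (hk.2 : k • g • b = g • b).symm)) hb12
          · exact e
    have h4 := card_orbit_mul_card_inf K3 (g • b)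
    rw [hK4, mul_one] at h4
    rw [← h4]
    refine le_trans (Set.ncard_le_ncard (t := {g • b, g • g • b}) ?_)
      (le_of_eq (Set.ncard_pair (Ne.symm hb12)))
    rintro _ ⟨k, rfl⟩
    have hm := hO2 k.1 k.2.1 (g • b) (by rw [horb3 b hbω]; simp)
    rw [horb3 b hbω] at hm
    rcases hm with e | e | e
    · exact absurd (smul_left_cancel k.1 (e.trans (k.2.2 : k.1 • b = b).symm)) hb1
    · exact Or.inl e
    · exact Or.inr e
  have hK2c := card_orbit_mul_card_inf K2 b
  rw [ho3] at hK2c
  rw [hoa, ← hK2c, he, hl, show K2 ⊓ stabilizer G b = K3 from rfl] at hKdvd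
  have h0 : 0 < Nat.card K3 := Nat.card_pos
  have h1 : (orbit K1 (g • a)).ncard * (3 * Nat.card K3) ≤ 12 :=
    le_trans (Nat.mul_le_mul ho2 (Nat.mul_le_mul_left 3 hK3)) le_rfl
  have he12 : e ≤ 12 := by omega
  have h3e : 3 ∣ e := ⟨(orbit K1 (g • a)).ncard * Nat.card K3, by
    have : e * 3 = (3 * ((orbit K1 (g • a)).ncard * Nat.card K3)) * 3 := by rw [hKdvd]; ring
    omega⟩
  rw [hp] at hmod
  omega

include h r in
/-- In very small degree `S` is normal in `D`. -/
theorem norm_small (hsr : ∀ a ∈ Subgroup.normalizer (S : Set G) ⊓ stabilizer G ω,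
    ∀ s ∈ S, s ≠ 1 → a * s = s * a → a = 1) (hm : D.index ≤ 2)
    (hn : Nat.card α < (D.index + 1) ^ 2) : D ≤ Subgroup.normalizer (S : Set G) := by
  set m := D.index
  set n := Nat.card α
  set A := Subgroup.normalizer (S : Set G) ⊓ stabilizer G ω
  set l := Nat.card ↥(D ⊓ Subgroup.normalizer (S : Set G) ⊓ stabilizer G ω) with hldef
  by_cases hl1 : l = 1
  · exact r.norm_of_trivial h (Subgroup.card_eq_one.1 hl1)
  have hl2 : 2 ≤ l := by
    have : 0 < l := Nat.card_pos
    omega
  have hAD : m * l ∣ n - 1 := by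
    refine dvd_trans ?_ (r.card_dvd h hsr)
    rw [card_eq_index_mul_card_inf h.normal r.cov]
    refine mul_dvd_mul_left m (dvd_of_eq ?_)
    rw [hldef]
    congr 2
    rw [inf_assoc, inf_comm]
  have hn2 := h.two_le
  have hm0 : m ≠ 0 := Subgroup.index_ne_zero_of_finite
  obtain ⟨a, ha⟩ := r.isPow
  have hn9 : n < 9 := by
    calc n < (m + 1) ^ 2 := hn
      _ ≤ 3 ^ 2 := Nat.pow_le_pow_left (by omega) 2
  have hml : m * l ≤ n - 1 := Nat.le_of_dvd (by omega) hAD
  have hcase : n = 3 ∧ m = 1 ∧ l = 2 ∨ n = 5 ∧ m = 2 ∧ l = 2 ∨ n = 7 ∧ m = 2 ∧ l = 3 := by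
    have hn' : n ≠ 6 := by
      intro h6
      have h2 : 2 ∣ p ^ a := by rw [← ha]; show 2 ∣ n; omega
      have h3 : 3 ∣ p ^ a := by rw [← ha]; show 3 ∣ n; omega
      have e2 := (Nat.prime_dvd_prime_iff_eq (by norm_num) r.pp).1
        ((show Nat.Prime 2 by norm_num).dvd_of_dvd_pow h2)
      have e3 := (Nat.prime_dvd_prime_iff_eq (by norm_num) r.pp).1
        ((show Nat.Prime 3 by norm_num).dvd_of_dvd_pow h3)
      omega
    obtain ⟨q, hq⟩ := hAD
    have hl8 : l ≤ 7 := by
      have : l ≤ m * l := Nat.le_mul_of_pos_left l (by omega)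
      omega
    have hq8 : q ≤ 7 := by
      have : q ≤ m * l * q := Nat.le_mul_of_pos_left q (Nat.mul_pos (by omega) (by omega))
      omega
    have h12 : m = 1 ∨ m = 2 := by omega
    rcases h12 with h1 | h1 <;> rw [h1] at hn hq hml ⊢ <;> norm_num at hn <;>
      interval_cases l <;> omega
  rcases hcase with ⟨hn3, hm1, hl⟩ | ⟨hn5, hm2, hl⟩ | ⟨hn7, hm2, hl⟩
  rotate_left 2
  · refine r.norm_seven h hsr hn7 hl fun x hx => ?_
    have := r.card_orbit_stab_le h hx
    rw [show D.index = 2 from hm2, show Nat.card α = 7 from hn7] at this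
    omega
  all_goals
    obtain ⟨e, he, hmod, hone⟩ := r.sylow_count h
    have h2 : ∀ x ∈ Finset.filter (fun x => x ≠ ω) (Set.toFinite (Set.univ : Set α)).toFinset,
        (orbit ↥(D ⊓ stabilizer G ω) x).ncard ≤ 2 := by
      intro x hx
      have h1 := r.card_orbit_stab_le h (Finset.mem_filter.1 hx).2
      first
        | rw [show D.index = 1 from hm1, show Nat.card α = 3 from hn3] at h1
        | rw [show D.index = 2 from hm2, show Nat.card α = 5 from hn5] at h1
      omega
    obtain ⟨K', hle, hfix, hdvd⟩ := card_dvd_two_pow _ _ h2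
    have hK' : K' = ⊥ := by
      rw [eq_bot_iff]
      intro k hk
      refine Subgroup.mem_bot.2 (h.faithful k fun x => ?_)
      by_cases hx : x = ω
      · rw [hx]; exact (hle hk).2
      · exact hfix k hk x (Finset.mem_filter.2 ⟨by simp, hx⟩)
    have hcard : (Finset.filter (fun x => x ≠ ω) (Set.toFinite (Set.univ : Set α)).toFinset).card
        = n - 1 := by
      rw [Finset.filter_ne' , Finset.card_erase_of_mem (by simp),
        ← Set.ncard_eq_toFinset_card (Set.univ : Set α), Set.ncard_univ]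
    rw [hK', Subgroup.card_bot, mul_one, hcard, he, ← hldef, hl] at hdvd
    refine hone ?_
    have hpn : p = n := by
      have hnp : Nat.Prime n := by
        first
          | (rw [hn3]; norm_num)
          | (rw [hn5]; norm_num)
      exact (Nat.prime_dvd_prime_iff_eq r.pp hnp).1
        (show p ∣ Nat.card α from ha ▸ dvd_pow_self p (by
          rintro rfl
          rw [pow_zero] at ha
          have : n = 1 := ha
          omega))
    first
      | (rw [hn3] at hdvd hpn; rw [hpn] at hmod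
         have hlt : e ≤ 2 := by
           have := Nat.le_of_dvd (by norm_num) hdvd
           omega
         interval_cases e <;> omega)
      | (rw [hn5] at hdvd hpn; rw [hpn] at hmod
         have hlt : e ≤ 8 := by
           have := Nat.le_of_dvd (by norm_num) hdvd
           omega
         interval_cases e <;> omega)

end Reg

theorem index_bound_nonaffine (G : Type u) (Ω : Type v) [Group G] [Finite G] [MulAction G Ω]
    [FaithfulSMul G Ω] [Fintype Ω] (hG : IsPretransitive G Ω) (hn2 : 2 ≤ Nat.card Ω)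
    (hna : ∀ N : Subgroup G, N.Normal → IsMulCommutative ↥N → N = ⊥) :
    ((Subgroup.closure {g : G | ∀ ω : Ω, g • ω ≠ ω}).index + 1) ^ 2 ≤ Nat.card Ω := by
  set D := Subgroup.closure {g : G | ∀ ω : Ω, g • ω ≠ ω}
  have h : Base G Ω D := base_of_derangements G Ω hG hn2
  rcases h.reduction with hle | ⟨S, ω, p, r⟩
  · exact hle
  by_cases hbad : ∃ a ∈ (Subgroup.normalizer (S : Set G) ⊓ stabilizer G ω) ⊓ D, Bad S a
  · have := (r.lin h).main' hbad
    rwa [r.card_eq] at this
  have hsr : ∀ a ∈ Subgroup.normalizer (S : Set G) ⊓ stabilizer G ω,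
      ∀ s ∈ S, s ≠ 1 → a * s = s * a → a = 1 := by
    intro a ha s hs hs1 hcomm
    by_contra ha1
    by_cases haD : a ∈ D
    · exact hbad ⟨a, ⟨ha, haD⟩, ha1, s, hs, hs1, hcomm⟩
    · exact hs1 ((r.lin h).fpf a ha haD s hs hcomm)
  have hnn : ¬ D ≤ Subgroup.normalizer (S : Set G) := by
    intro hnorm
    have hN : Subgroup.normalizer (S : Set G) = ⊤ := by
      rw [eq_top_iff]
      intro g _
      obtain ⟨a, ha, hd⟩ := r.cov g
      have h1 : g = a * (a⁻¹ * g) := by group
      rw [h1]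
      exact Subgroup.mul_mem _ ha.1 (hnorm hd)
    have hS : S = ⊥ := hna S (Subgroup.normalizer_eq_top_iff.1 hN)
      ⟨⟨fun a b => Subtype.ext (r.comm _ a.2 _ b.2)⟩⟩
    have := r.card_eq
    rw [hS, Subgroup.card_bot] at this
    omega
  by_cases hm3 : 3 ≤ D.index
  · exact r.bound_of_not_norm h hsr hnn hm3
  by_contra hc
  exact hnn (r.norm_small h hsr (by omega) (not_le.1 hc))

end Derange5732
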