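import Cfsg.Agent.Derange5732.Sylow
import Cfsg.Agent.Derange5732.Linear.Main
import Cfsg.Agent.Derange5732.Chars

/-!
# The case where the complement is semiregular, and the final dichotomy
-/

set_option autoImplicit false

namespace Derange5732

open scoped Classical Pointwise
open MulAction

universe u v

variable {G : Type u} [Group G] [Finite G] {α : Type v} [MulAction G α] [Finite α]
  {D S : Subgroup G} {ω : α} {p : ℕ}

namespace Reg

variable (h : Base G α D) (r : Reg G α D S ω p)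

include r in
omit [Finite G] [Finite α] in
theorem exists_smul_eq (x : α) : ∃ s ∈ S, s • ω = x := r.trans ω x

include r in
omit [Finite G] [Finite α] in
theorem eq_one_of_fix {s : G} (hs : s ∈ S) {x : α} (hx : s • x = x) : s = 1 := by
  obtain ⟨t, ht, rfl⟩ := r.trans ω x
  have h1 : t⁻¹ * s * t = s := by
    rw [r.comm _ (S.inv_mem ht) s hs, mul_assoc, inv_mul_cancel, mul_one]
  have h2 : s ∈ S ⊓ stabilizer G ω := by
    refine ⟨hs, ?_⟩
    show s • ω = ω
    rw [← h1, mul_smul, mul_smul, hx, inv_smul_smul]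
  rw [r.regular] at h2
  exact Subgroup.mem_bot.1 h2

include h r in
theorem lin : Lin D (Subgroup.normalizer (S : Set G) ⊓ stabilizer G ω) S p where
  pp := r.pp
  normal := h.normal
  A_norm := inf_le_left
  cov := r.cov
  comm := r.comm
  exp := r.exp
  irred := r.irred
  coprime hdvd := r.coprime (hdvd.trans (Subgroup.card_dvd_of_le
    (le_inf inf_le_right (inf_le_left.trans inf_le_right))))
  faithful a ha hcomm := h.faithful a fun x => by
    obtain ⟨s, hs, rfl⟩ := r.exists_smul_eq x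
    rw [← mul_smul, hcomm s hs, mul_smul, (ha.2 : a • ω = ω)]
  fpf a ha haD s hs hcomm := by
    refine r.eq_one_of_fix hs (x := ω) ?_
    refine h.eq_of_fix haD ?_ ha.2
    rw [← mul_smul, hcomm, mul_smul, (ha.2 : a • ω = ω)]

include h r in
/-- A transitive subgroup of `D` containing `S` in which `S` is self-normalising equals `S`. -/
theorem eq_of_self_normalizing {C : Subgroup G} (hC : C ≤ D) (hSC : S ≤ C)
    (hN : C ⊓ Subgroup.normalizer (S : Set G) ≤ S) : C = S := by
  have := Fact.mk r.pp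
  have hstab : ∀ x : α, ¬ p ∣ Nat.card ↥(D ⊓ stabilizer G x) := fun x => by
    have e := Nat.eq_of_mul_eq_mul_left (show 0 < Nat.card α by have := h.two_le; omega)
      ((h.card_inf_stab x).trans (h.card_inf_stab ω).symm)
    rw [e]; exact r.coprime
  have hcC : ∀ x : α, Nat.card α * Nat.card ↥(C ⊓ stabilizer G x) = Nat.card C :=
    fun x => dvd_card_of_trans (r.trans.mono hSC) x
  have hcop : ∀ x : α, ¬ p ∣ Nat.card ↥(C ⊓ stabilizer G x) := fun x hd =>
    hstab x (hd.trans (Subgroup.card_dvd_of_le (inf_le_inf_right _ hC)))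
  obtain ⟨a, ha⟩ := r.isPow
  let P : Sylow p C := Sylow.ofCard (S.subgroupOf C) (by
    rw [Nat.card_congr (Subgroup.subgroupOfEquivOfLe hSC).toEquiv, r.card_eq, ← hcC ω,
      Nat.factorization_mul (by have := h.two_le; omega) Nat.card_pos.ne', Finsupp.add_apply,
      Nat.factorization_eq_zero_of_not_dvd (hcop ω), add_zero, ha, r.pp.factorization_pow,
      Finsupp.single_eq_same])
  have hP : Subgroup.normalizer ((P : Subgroup C) : Set C) ≤ Subgroup.centralizer ((P : Subgroup C) : Set C) := by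
    intro x hx
    have hxN : x.1 ∈ Subgroup.normalizer (S : Set G) := by
      rw [Subgroup.mem_normalizer_iff_map_conj_eq]
      apply Subgroup.eq_of_le_of_card_ge
      · rintro _ ⟨s, hs, rfl⟩
        have := (Subgroup.mem_normalizer_iff.1 hx ⟨s, hSC hs⟩).1 hs
        exact this
      · rw [Subgroup.card_map_of_injective (MulEquiv.injective _)]
    have hxS : x.1 ∈ S := hN ⟨x.2, hxN⟩
    rw [Subgroup.mem_centralizer_iff]
    intro y hy
    exact Subtype.ext (r.comm y.1 hy x.1 hxS)
  set φ := MonoidHom.transferSylow P hP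
  have hK := MonoidHom.ker_transferSylow_isComplement' P hP
  have hKle : ∀ x : α, ∀ g : C, g.1 • x = x → g ∈ φ.ker := by
    intro x g hg
    rw [MonoidHom.mem_ker, ← orderOf_eq_one_iff]
    have h1 : orderOf (φ g) ∣ Nat.card ↥(C ⊓ stabilizer G x) := by
      refine (orderOf_map_dvd φ g).trans ?_
      rw [← Subgroup.orderOf_coe]
      exact Subgroup.orderOf_dvd_natCard _ ⟨g.2, hg⟩
    obtain ⟨i, hi⟩ := P.2.exists_card_eq
    obtain ⟨j, -, hj⟩ := (Nat.dvd_prime_pow r.pp).1 (hi ▸ orderOf_dvd_natCard (φ g))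
    rcases Nat.eq_zero_or_pos j with rfl | hj0
    · simpa using hj
    · exact absurd ((dvd_pow_self p hj0.ne').trans (hj ▸ h1)) (hcop x)
  have hKcard : ∀ x : α, Nat.card φ.ker ≤ Nat.card ↥(C ⊓ stabilizer G x) := by
    intro x
    have h1 := hK.card_mul
    have h2 : Nat.card (P : Subgroup C) = Nat.card α := by
      show Nat.card (S.subgroupOf C) = _
      rw [Nat.card_congr (Subgroup.subgroupOfEquivOfLe hSC).toEquiv, r.card_eq]
    rw [h2, ← hcC x, mul_comm (Nat.card α)] at h1
    exact le_of_eq (Nat.eq_of_mul_eq_mul_right (by have := h.two_le; omega) h1)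
  have hker : ∀ g ∈ φ.ker, g = 1 := by
    intro g hg
    refine Subtype.ext (h.faithful g.1 fun x => ?_)
    have : (C ⊓ stabilizer G x).subgroupOf C = φ.ker := by
      refine Subgroup.eq_of_le_of_card_ge (fun k hk => hKle x k hk.2) ?_
      rw [Nat.card_congr (Subgroup.subgroupOfEquivOfLe inf_le_left).toEquiv]
      exact hKcard x
    rw [← this] at hg
    exact hg.2
  refine (Subgroup.eq_of_le_of_card_ge hSC ?_).symm
  have h1 := hK.card_mul
  rw [show φ.ker = ⊥ from (Subgroup.eq_bot_iff_forall _).2 hker, Subgroup.card_bot, one_mul] at h1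
  have h2 : Nat.card (P : Subgroup C) = Nat.card S :=
    Nat.card_congr (Subgroup.subgroupOfEquivOfLe hSC).toEquiv
  omega

include h r in
/-- Semiregularity gives `|A| ∣ n - 1`. -/
theorem card_dvd (hsr : ∀ a ∈ Subgroup.normalizer (S : Set G) ⊓ stabilizer G ω,
    ∀ s ∈ S, s ≠ 1 → a * s = s * a → a = 1) :
    Nat.card ↥(Subgroup.normalizer (S : Set G) ⊓ stabilizer G ω) ∣ Nat.card α - 1 := by
  set A := Subgroup.normalizer (S : Set G) ⊓ stabilizer G ω
  let X : Set G := {s | s ∈ S ∧ s ≠ 1}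
  let _ : MulAction A X := conjOn A X fun g hg x hx =>
    ⟨(lin h r).conj_mem hg hx.1, fun he => hx.2 (by simpa using he)⟩
  have : Fintype X := Fintype.ofFinite X
  have h1 := dvd_sum_of_stabilizer (A := A) (β := X) (t := Nat.card A) (fun x => by
    have : stabilizer A x = ⊥ := by
      rw [Subgroup.eq_bot_iff_forall]
      intro a ha
      exact Subtype.ext (hsr a.1 a.2 x.1 x.2.1 x.2.2
        (mul_inv_eq_iff_eq_mul.1 (congrArg Subtype.val ha)))
    rw [this, Subgroup.index_bot]) (fun _ => 1) (fun _ _ => rfl)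
  simp only [Finset.sum_const, Finset.card_univ, smul_eq_mul, mul_one] at h1
  rw [← Nat.card_eq_fintype_card, Nat.card_coe_set_eq] at h1
  have h2 : X = (S : Set G) \ {1} := by ext; simp [X]
  rw [h2, Set.ncard_diff_singleton_of_mem (show (1:G) ∈ (S : Set G) from S.one_mem),
    ← Nat.card_coe_set_eq] at h1
  have h3 : Nat.card ((S : Set G)) = Nat.card α := r.card_eq
  rwa [h3] at h1

end Reg

/-- The conclusion "primitive Frobenius group". -/
def FrobPrim (G : Type u) [Group G] (α : Type v) [MulAction G α] : Prop :=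
  IsPreprimitive G α ∧ (IsPretransitive G α ∧ (∃ g : G, g ≠ 1 ∧ ∃ x : α, g • x = x) ∧
    ∀ g : G, g ≠ 1 → Nat.card (fixedBy α g) ≤ 1)

namespace Reg

variable (h : Base G α D) (r : Reg G α D S ω p)

include h r in
theorem frobenius (hsr : ∀ a ∈ Subgroup.normalizer (S : Set G) ⊓ stabilizer G ω,
    ∀ s ∈ S, s ≠ 1 → a * s = s * a → a = 1)
    (hnorm : D ≤ Subgroup.normalizer (S : Set G)) (hm : D.index ≠ 1) : FrobPrim G α := by
  have hN : Subgroup.normalizer (S : Set G) = ⊤ := by
    rw [eq_top_iff]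
    intro g _
    obtain ⟨a, ha, hd⟩ := r.cov g
    have h1 : g = a * (a⁻¹ * g) := by group
    rw [h1]
    exact Subgroup.mul_mem _ ha.1 (hnorm hd)
  have hpre : IsPretransitive G α := ⟨fun x y => let ⟨d, _, e⟩ := h.trans x y; ⟨d, e⟩⟩
  have hstab : ∀ g : G, g • ω = ω → ∀ x : α, g • x = x → x ≠ ω → g = 1 := by
    intro g hg x hx hxω
    obtain ⟨s, hs, rfl⟩ := r.exists_smul_eq x
    have hgS : g * s * g⁻¹ ∈ S :=
      Subgroup.le_normalizer_iff.1 (le_refl _) g (hN ▸ Subgroup.mem_top g) s hs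
    have h2 : s⁻¹ * (g * s * g⁻¹) = 1 := by
      refine r.eq_one_of_fix (S.mul_mem (S.inv_mem hs) hgS) (x := ω) ?_
      rw [mul_smul, mul_smul, mul_smul, inv_smul_eq_iff.2 hg.symm, hx, inv_smul_smul]
    refine hsr g ⟨hN ▸ Subgroup.mem_top g, hg⟩ s hs ?_ ?_
    · rintro rfl; exact hxω (one_smul _ _)
    · exact mul_inv_eq_iff_eq_mul.1 (inv_mul_eq_one.1 h2).symm
  have hfix : ∀ g : G, g ≠ 1 → Nat.card (fixedBy α g) ≤ 1 := by
    intro g hg
    rw [Nat.card_coe_set_eq, Set.ncard_le_one]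
    intro x hx y hy
    by_contra hxy
    obtain ⟨t, rfl⟩ := MulAction.exists_smul_eq G ω x
    have hgx : g • t • ω = t • ω := hx
    have hgy : g • y = y := hy
    have h1 : (t⁻¹ * g * t) • ω = ω := by rw [mul_smul, mul_smul, hgx, inv_smul_smul]
    have h2 : (t⁻¹ * g * t) • t⁻¹ • y = t⁻¹ • y := by
      rw [mul_smul, mul_smul, smul_inv_smul, hgy]
    have h3 := hstab _ h1 _ h2 (fun he => hxy (by rw [inv_smul_eq_iff] at he; exact he.symm))
    exact hg (by
      calc g = t * (t⁻¹ * g * t) * t⁻¹ := by group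
        _ = 1 := by rw [h3]; group)
  have hnt : Nontrivial α := Finite.one_lt_card_iff_nontrivial.1 (by have := h.two_le; omega)
  refine ⟨?_, hpre, ?_, hfix⟩
  · rw [← isCoatom_stabilizer_iff_preprimitive G ω]
    refine ⟨?_, fun K hK => ?_⟩
    · intro he
      obtain ⟨x, hx⟩ := exists_ne ω
      obtain ⟨g, rfl⟩ := MulAction.exists_smul_eq G ω x
      exact hx (show g • ω = ω from (he ▸ Subgroup.mem_top g : g ∈ stabilizer G ω))
    · have hdec : ∀ k ∈ K, ∃ s ∈ S, s ∈ K ∧ ∃ t ∈ stabilizer G ω, k = s * t := by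
        intro k hk
        obtain ⟨s, hs, hsω⟩ := r.exists_smul_eq (k • ω)
        have ht : s⁻¹ * k ∈ stabilizer G ω := by
          rw [mem_stabilizer_iff, mul_smul, ← hsω, inv_smul_smul]
        refine ⟨s, hs, ?_, _, ht, by group⟩
        have := K.mul_mem hk (K.inv_mem (hK.le ht))
        simpa [mul_assoc] using this
      have hU : Cov D (Subgroup.normalizer ((S ⊓ K : Subgroup G) : Set G)) := r.cov.mono (by
        rw [Subgroup.le_normalizer_iff]
        intro g hg x hx
        exact ⟨Subgroup.le_normalizer_iff.1 (le_refl _) g hg.1 x hx.1,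
          K.mul_mem (K.mul_mem (hK.le hg.2) hx.2) (K.inv_mem (hK.le hg.2))⟩)
      rcases r.irred _ inf_le_left hU with e | e
      · exfalso
        obtain ⟨k, hk, hkn⟩ := SetLike.exists_of_lt hK
        obtain ⟨s, hs, hsK, t, ht, rfl⟩ := hdec k hk
        have : s ∈ S ⊓ K := ⟨hs, hsK⟩
        rw [e, Subgroup.mem_bot] at this
        rw [this, one_mul] at hkn
        exact hkn ht
      · rw [eq_top_iff]
        intro g _
        obtain ⟨s, hs, hsω⟩ := r.exists_smul_eq (g • ω)
        have ht : s⁻¹ * g ∈ stabilizer G ω := by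
          rw [mem_stabilizer_iff, mul_smul, ← hsω, inv_smul_smul]
        have hsK : s ∈ K := (e.ge hs).2
        simpa using K.mul_mem hsK (hK.le ht)
  · obtain ⟨g, hg⟩ : ∃ g : G, g ∉ D := by
      by_contra hc
      push Not at hc
      exact hm (Subgroup.index_eq_one.2 (eq_top_iff.2 fun g _ => hc g))
    obtain ⟨x, ⟨-, hx⟩, -⟩ := h.fix1.uniq g trivial hg
    exact ⟨g, fun he => hg (he ▸ D.one_mem), x, hx⟩

include h r in
/-- If `S` is not normal in `D`, semiregularity gives the bound. -/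
theorem bound_of_not_norm (hsr : ∀ a ∈ Subgroup.normalizer (S : Set G) ⊓ stabilizer G ω,
    ∀ s ∈ S, s ≠ 1 → a * s = s * a → a = 1)
    (hnorm : ¬ D ≤ Subgroup.normalizer (S : Set G)) (hm : 3 ≤ D.index) :
    (D.index + 1) ^ 2 ≤ Nat.card α := by
  have hn := h.two_le
  set m := D.index with hmdef
  have := Fact.mk r.pp
  -- `C_D(u) = S`
  have hcent : ∀ u ∈ S, u ≠ 1 → D ⊓ Subgroup.centralizer {u} = S := by
    intro u hu hu1
    refine r.eq_of_self_normalizing h inf_le_left (le_inf r.le fun s hs => ?_) ?_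
    · rw [Subgroup.mem_centralizer_singleton_iff]; exact r.comm s hs u hu
    · rintro x ⟨⟨hxD, hxu⟩, hxN⟩
      have hxu' : x * u = u * x := Subgroup.mem_centralizer_singleton_iff.1 hxu
      obtain ⟨s, hs, hsω⟩ := r.exists_smul_eq (x • ω)
      have hsu : Commute s⁻¹ u := (show Commute s u from r.comm s hs u hu).inv_left
      have h1 : s⁻¹ * x = 1 := hsr _ ⟨Subgroup.mul_mem _
        (Subgroup.le_normalizer (S.inv_mem hs)) hxN, by
          show (s⁻¹ * x) • ω = ω
          rw [mul_smul, ← hsω, inv_smul_smul]⟩ u hu hu1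
        (hsu.mul_left (show Commute x u from hxu')).eq
      rw [inv_mul_eq_one] at h1
      exact h1 ▸ hs
  -- the normal closure of `S` in `D`
  set D0 := Subgroup.closure {x : G | ∃ d ∈ D, ∃ s ∈ S, d * s * d⁻¹ = x}
  have hSD0 : S ≤ D0 := fun s hs => Subgroup.subset_closure ⟨1, D.one_mem, s, hs, by simp⟩
  have hD0D : D0 ≤ D := by
    rw [Subgroup.closure_le]
    rintro _ ⟨d, hd, s, hs, rfl⟩
    exact D.mul_mem (D.mul_mem hd (r.le hs)) (D.inv_mem hd)
  have hD0n : D0.Normal := by
    rw [← Subgroup.normalizer_eq_top_iff, eq_top_iff]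
    intro g _
    obtain ⟨a, ha, hd⟩ := r.cov g
    have h1 : g = a * (a⁻¹ * g) := by group
    rw [h1]
    refine Subgroup.mul_mem _ ?_ ?_
    · refine (Subgroup.le_normalizer_closure_iff (H := Subgroup.zpowers a)).2 ?_ (Subgroup.mem_zpowers a)
      rintro b hb _ ⟨d, hd', s, hs, rfl⟩
      refine Subgroup.subset_closure ⟨b * d * b⁻¹, h.normal.conj_mem d hd' b, b * s * b⁻¹, ?_, by group⟩
      exact Subgroup.le_normalizer_iff.1 (le_refl _) b (Subgroup.zpowers_le.2 ha.1 hb) s hs
    · refine (Subgroup.le_normalizer_closure_iff (H := D)).2 ?_ hd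
      rintro b hb _ ⟨d, hd', s, hs, rfl⟩
      exact Subgroup.subset_closure ⟨b * d, D.mul_mem hb hd', s, hs, by group⟩
  obtain ⟨a, ha⟩ := r.isPow
  have hD0syl : IsSyl p D0 S := by
    refine ⟨hSD0, ?_⟩
    rw [r.card_eq, ← dvd_card_of_trans (r.trans.mono hSD0) ω,
      Nat.factorization_mul (by omega) Nat.card_pos.ne', Finsupp.add_apply,
      Nat.factorization_eq_zero_of_not_dvd (fun hd => r.coprime (hd.trans
        (Subgroup.card_dvd_of_le (inf_le_inf_right _ hD0D)))), add_zero, ha,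
      r.pp.factorization_pow, Finsupp.single_eq_same]
  set N0 := D0 ⊓ Subgroup.normalizer (S : Set G)
  set l := Nat.card ↥(N0 ⊓ stabilizer G ω) with hl
  have hN0 : Nat.card N0 = Nat.card α * l :=
    (dvd_card_of_trans (r.trans.mono (le_inf hSD0 Subgroup.le_normalizer)) ω).symm
  have hl2 : 2 ≤ l := by
    by_contra hlt
    have hl1 : l = 1 := by
      have : 0 < l := Nat.card_pos
      omega
    have hNS : N0 = S := (Subgroup.eq_of_le_of_card_ge (le_inf hSD0 Subgroup.le_normalizer)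
      (by rw [hN0, hl1, mul_one, r.card_eq])).symm
    have hD0S := r.eq_of_self_normalizing h hD0D hSD0 hNS.le
    apply hnorm
    rw [Subgroup.le_normalizer_iff]
    intro d hd s hs
    rw [← hD0S]
    exact Subgroup.subset_closure ⟨d, hd, s, hs, rfl⟩
  set A := Subgroup.normalizer (S : Set G) ⊓ stabilizer G ω
  have hA : m * l ∣ Nat.card α - 1 := by
    refine dvd_trans ?_ (r.card_dvd h hsr)
    rw [card_eq_index_mul_card_inf h.normal r.cov, ← hmdef]
    exact mul_dvd_mul_left m (Subgroup.card_dvd_of_le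
      (le_inf (le_inf (inf_le_left.trans inf_le_right) inf_le_right)
        (inf_le_left.trans (inf_le_left.trans hD0D))))
  obtain ⟨k, hk⟩ := hA
  set J := m * k
  have hJn : Nat.card α = J * l + 1 := by
    have : Nat.card α - 1 = J * l := by rw [hk]; ring
    omega
  have hk0 : 1 ≤ k := Nat.pos_of_ne_zero fun h0 => by
    rw [h0, mul_zero] at hk; omega
  have hmJ : m ≤ J := Nat.le_mul_of_pos_right m hk0
  by_cases hlJ : J + 2 ≤ l
  · rw [hJn]
    have : m * (m + 2) ≤ J * l := Nat.mul_le_mul hmJ (by omega)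
    nlinarith
  exfalso
  -- characters of `D0`
  have : Fintype D0 := Fintype.ofFinite _
  have : Fintype α := Fintype.ofFinite _
  have : IsPretransitive D0 α := ⟨fun x y => by
    obtain ⟨s, hs, e⟩ := r.trans x y
    exact ⟨⟨s, hSD0 hs⟩, e⟩⟩
  have hTI : TISub (S.subgroupOf D0) (Nat.card α) l J := by
    refine ⟨?_, fun a b => Subtype.ext (Subtype.ext (r.comm _ a.2 _ b.2)), ?_, ?_, ?_, hJn, hl2,
      by omega, by omega⟩
    · rw [Nat.card_congr (Subgroup.subgroupOfEquivOfLe hSD0).toEquiv, r.card_eq]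
    · intro u hu hu1
      ext x
      rw [Subgroup.mem_centralizer_singleton_iff, Subgroup.mem_subgroupOf]
      constructor
      · intro hx
        rw [← hcent u.1 hu (fun he => hu1 (Subtype.ext he))]
        exact ⟨hD0D x.2, Subgroup.mem_centralizer_singleton_iff.2 (congrArg Subtype.val hx)⟩
      · intro hx
        exact Subtype.ext (r.comm x.1 hx u.1 hu)
    · intro K hK hSK
      rw [eq_top_iff]
      have hle : D0 ≤ K.map D0.subtype := by
        refine (Subgroup.closure_le _).2 ?_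
        rintro _ ⟨d, hd, s, hs, rfl⟩
        -- Sylow conjugacy inside `D0`
        set Q := S.map (MulAut.conj d).toMonoidHom
        have hQ : Q ≤ D0 := by
          rintro _ ⟨t, ht, rfl⟩
          exact Subgroup.subset_closure ⟨d, hd, t, ht, rfl⟩
        obtain ⟨y, hy, hyQ⟩ := hD0syl.exists_conj_mem hQ (hD0syl.isPGroup.map _)
        have h1 : y * (d * s * d⁻¹) * y⁻¹ ∈ S := hyQ _ ⟨s, hs, rfl⟩
        have h2 : (⟨y * (d * s * d⁻¹) * y⁻¹, hSD0 h1⟩ : D0) ∈ K := hSK h1
        refine ⟨(⟨y, hy⟩ : D0)⁻¹ * ⟨y * (d * s * d⁻¹) * y⁻¹, hSD0 h1⟩ * ⟨y, hy⟩,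
          by simpa using hK.conj_mem _ h2 (⟨y, hy⟩ : D0)⁻¹, ?_⟩
        show y⁻¹ * (y * (d * s * d⁻¹) * y⁻¹) * y = d * s * d⁻¹
        group
      intro x _
      obtain ⟨k, hk, hkx⟩ := hle x.2
      rwa [Subtype.ext hkx] at hk
    · rw [← hN0]
      refine Nat.card_congr ⟨fun x => ⟨x.1.1, x.1.2, ?_⟩, fun x => ⟨⟨x.1, x.2.1⟩, ?_⟩,
        fun _ => rfl, fun _ => rfl⟩
      · show x.1.1 ∈ Subgroup.normalizer (S : Set G)
        rw [Subgroup.mem_normalizer_iff_map_conj_eq]
        apply Subgroup.eq_of_le_of_card_ge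
        · rintro _ ⟨s, hs, rfl⟩
          exact (Subgroup.mem_normalizer_iff.1 x.2 ⟨s, hSD0 hs⟩).1 hs
        · rw [Subgroup.card_map_of_injective (MulEquiv.injective _)]
      · rw [Subgroup.mem_normalizer_iff]
        intro t
        exact Subgroup.mem_normalizer_iff.1 x.2.2 t.1
  refine hTI.false_of_rank (α := α) rfl (fun s hs hs1 x hx => hs1 (Subtype.ext ?_)) ?_
  · exact r.eq_one_of_fix hs hx
  -- the rank is at least four
  have hstabsum : ∀ x : α, 4 * Nat.card ↥(D0 ⊓ stabilizer G x)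
      ≤ ∑ y : α, Nat.card ↥(D0 ⊓ stabilizer G x ⊓ stabilizer G y) := by
    intro x
    set K := D0 ⊓ stabilizer G x with hK
    have : Nontrivial α := Finite.one_lt_card_iff_nontrivial.1 (by omega)
    obtain ⟨δ, hδ⟩ := exists_ne x
    set H := stabilizer G x
    have he : ∀ y : α, y ∈ orbit H δ → y ≠ x ∧
        (orbit H δ).ncard = m * (orbit ↥(H ⊓ D) y).ncard := by
      intro y hy
      have hyx : y ≠ x := by
        rintro rfl
        obtain ⟨g, hg⟩ := hy
        have h1 : g.1 • δ = g.1 • y := hg.trans (show y = g.1 • y from g.2.symm)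
        exact hδ (smul_left_cancel g.1 h1)
      refine ⟨hyx, ?_⟩
      rw [← orbit_eq_iff.2 hy]
      exact h.fix1.card_orbit_eq le_top (h.cov_stab x) trivial trivial (fun g hg => hg) hyx
    have hone : ∀ y ∈ orbit H δ, Nat.card K * m
        ≤ (orbit H δ).ncard * Nat.card ↥(K ⊓ stabilizer G y) := by
      intro y hy
      rw [(he y hy).2, ← card_orbit_mul_card_inf K y]
      have : (orbit K y).ncard ≤ (orbit ↥(H ⊓ D) y).ncard := by
        refine Set.ncard_le_ncard ?_
        rintro _ ⟨g, rfl⟩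
        exact ⟨⟨g.1, g.2.2, hD0D g.2.1⟩, rfl⟩
      calc (orbit K y).ncard * Nat.card ↥(K ⊓ stabilizer G y) * m
          ≤ (orbit ↥(H ⊓ D) y).ncard * Nat.card ↥(K ⊓ stabilizer G y) * m :=
            Nat.mul_le_mul_right _ (Nat.mul_le_mul_right _ this)
        _ = _ := by ring
    set Of := (orbit H δ).toFinset
    have h1 := Finset.card_nsmul_le_sum Of (fun y => (orbit H δ).ncard * Nat.card ↥(K ⊓ stabilizer G y))
      (Nat.card K * m) (fun y hy => hone y (Set.mem_toFinset.1 hy))
    rw [← Finset.mul_sum, smul_eq_mul, ← Set.ncard_eq_toFinset_card'] at h1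
    have h2 := Nat.le_of_mul_le_mul_left h1 ((Set.ncard_pos).2 ⟨δ, mem_orbit_self δ⟩)
    have hxO : x ∉ Of := fun hx => (he x (Set.mem_toFinset.1 hx)).1 rfl
    have h3 := Finset.sum_le_sum_of_subset (f := fun y => Nat.card ↥(K ⊓ stabilizer G y))
      (Finset.subset_univ (insert x Of))
    rw [Finset.sum_insert hxO] at h3
    have h4 : Nat.card ↥(K ⊓ stabilizer G x) = Nat.card K := by
      rw [inf_eq_left.2 (inf_le_right : K ≤ stabilizer G x)]
    rw [h4] at h3
    have h5 : Nat.card K * 3 ≤ Nat.card K * m := Nat.mul_le_mul_left _ (by omega)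
    omega
  have hswap : ∑ g : D0, Nat.card (fixedBy α g) ^ 2
      = ∑ x : α, ∑ g ∈ Finset.univ.filter (fun g : D0 => g • x = x), Nat.card (fixedBy α g) := by
    simp only [Finset.sum_filter]
    rw [Finset.sum_comm]
    refine Finset.sum_congr rfl fun g _ => ?_
    rw [← Finset.sum_filter, Finset.sum_const, smul_eq_mul, sq]
    congr 1
    rw [Nat.card_eq_fintype_card, Fintype.card_subtype]
    simp [mem_fixedBy]
  rw [hswap]
  have hpt : ∀ x : α, ∑ g ∈ Finset.univ.filter (fun g : D0 => g • x = x), Nat.card (fixedBy α g)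
      = ∑ y : α, Nat.card ↥(D0 ⊓ stabilizer G x ⊓ stabilizer G y) := by
    intro x
    have e1 : ∀ g : D0, Nat.card (fixedBy α g) = ∑ y : α, if g • y = y then 1 else 0 := by
      intro g
      rw [← Finset.card_filter, Nat.card_eq_fintype_card, Fintype.card_subtype]
      simp [mem_fixedBy]
    simp only [e1]
    rw [Finset.sum_comm]
    refine Finset.sum_congr rfl fun y _ => ?_
    rw [← Finset.card_filter, Finset.filter_filter, ← Nat.card_eq_finsetCard]
    exact Nat.card_congr ⟨fun g => ⟨g.1.1, ⟨g.1.2, (Finset.mem_filter.1 g.2).2.1⟩,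
        (Finset.mem_filter.1 g.2).2.2⟩,
      fun g => ⟨⟨g.1, g.2.1.1⟩, Finset.mem_filter.2 ⟨Finset.mem_univ _, g.2.1.2, g.2.2⟩⟩,
      fun _ => rfl, fun _ => rfl⟩
  rw [Finset.sum_congr rfl (fun x _ => hpt x)]
  refine le_trans ?_ (Finset.sum_le_sum fun x _ => hstabsum x)
  rw [← Finset.mul_sum]
  refine Nat.mul_le_mul_left 4 ?_
  have hc : ∀ x : α, Nat.card ↥(D0 ⊓ stabilizer G x) * Nat.card α = Nat.card D0 := fun x => by
    rw [mul_comm]; exact dvd_card_of_trans (r.trans.mono hSD0) x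
  apply Nat.le_of_mul_le_mul_right _ (show 0 < Nat.card α by omega)
  rw [Finset.sum_mul, Finset.sum_congr rfl (fun x _ => hc x), Finset.sum_const, Finset.card_univ,
    ← Nat.card_eq_fintype_card, smul_eq_mul, mul_comm]

include h r in
theorem semiregular (hsr : ∀ a ∈ Subgroup.normalizer (S : Set G) ⊓ stabilizer G ω,
    ∀ s ∈ S, s ≠ 1 → a * s = s * a → a = 1) (hn : 16 ≤ Nat.card α) :
    (D.index + 1) ^ 2 ≤ Nat.card α ∨ FrobPrim G α := by
  by_cases hm3 : D.index ≤ 3
  · left
    calc (D.index + 1) ^ 2 ≤ 4 ^ 2 := Nat.pow_le_pow_left (by omega) 2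
      _ ≤ _ := hn
  by_cases hnorm : D ≤ Subgroup.normalizer (S : Set G)
  · exact Or.inr (r.frobenius h hsr hnorm (by omega))
  exact Or.inl (r.bound_of_not_norm h hsr hnorm (by omega))

end Reg

/-- The dichotomy. -/
theorem Base.main (h : Base G α D) (hn : 2 ^ 256 ≤ Nat.card α) :
    (D.index + 1) ^ 2 ≤ Nat.card α ∨ FrobPrim G α := by
  rcases h.reduction with hle | ⟨S, ω, p, r⟩
  · exact Or.inl hle
  by_cases hbad : ∃ a ∈ (Subgroup.normalizer (S : Set G) ⊓ stabilizer G ω) ⊓ D, Bad S a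
  · left
    have := (r.lin h).main (by rw [r.card_eq]; exact hn) hbad
    rwa [r.card_eq] at this
  refine r.semiregular h (fun a ha s hs hs1 hcomm => ?_) (le_trans (by norm_num) hn)
  by_contra ha1
  by_cases haD : a ∈ D
  · exact hbad ⟨a, ⟨ha, haD⟩, ha1, s, hs, hs1, hcomm⟩
  · exact hs1 ((r.lin h).fpf a ha haD s hs hcomm)

end Derange5732
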