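import Mathlib

/-!
# Transitive groups in which every element outside a normal subgroup fixes exactly one point

Basic machinery: covering subgroups, the counting lemma, Frattini arguments.
-/

set_option autoImplicit false

namespace Derange5732

open scoped Classical
open MulAction

variable {G : Type*} [Group G]

/-- `M` covers the quotient by `D`. -/
def Cov (D M : Subgroup G) : Prop := ∀ g : G, ∃ a ∈ M, a⁻¹ * g ∈ D

theorem Cov.mono {D M M' : Subgroup G} (h : Cov D M) (hle : M ≤ M') : Cov D M' := fun g => by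
  obtain ⟨a, ha, hg⟩ := h g
  exact ⟨a, hle ha, hg⟩

theorem cov_top (D : Subgroup G) : Cov D ⊤ := fun g => ⟨g, trivial, by simp⟩

theorem card_eq_index_mul_card_inf [Finite G] {D M : Subgroup G} (hD : D.Normal) (h : Cov D M) :
    Nat.card M = D.index * Nat.card ↥(M ⊓ D) := by
  set f : M →* G ⧸ D := (QuotientGroup.mk' D).comp M.subtype
  have hs : Function.Surjective f := by
    intro q
    obtain ⟨g, rfl⟩ := QuotientGroup.mk'_surjective D q
    obtain ⟨a, ha, hg⟩ := h g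
    exact ⟨⟨a, ha⟩, QuotientGroup.eq.2 hg⟩
  have hk : f.ker = D.subgroupOf M := by
    ext x
    simp [f, Subgroup.mem_subgroupOf]
  have h1 := Subgroup.card_mul_index f.ker
  rw [Subgroup.index_ker, MonoidHom.range_eq_top.2 hs, Subgroup.card_top, hk] at h1
  rw [← h1, Subgroup.index_eq_card, mul_comm, inf_comm]
  congr 1
  refine Nat.card_congr ⟨fun x => ⟨x.1.1, Subgroup.mem_subgroupOf.1 x.2, x.1.2⟩,
    fun x => ⟨⟨x.1, x.2.2⟩, x.2.1⟩, fun x => rfl, fun x => rfl⟩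

/-! ### Sylow subgroups of subgroups -/

/-- `P` is a Sylow `p`-subgroup of `Y`, both being subgroups of `G`. -/
structure IsSyl (p : ℕ) (Y P : Subgroup G) : Prop where
  le : P ≤ Y
  card_eq : Nat.card P = p ^ (Nat.card Y).factorization p

theorem IsSyl.isPGroup {p : ℕ} {Y P : Subgroup G} (h : IsSyl p Y P) [Fact p.Prime] :
    IsPGroup p P := IsPGroup.of_card h.card_eq

theorem exists_isSyl_ge [Finite G] {p : ℕ} [Fact p.Prime] {Y Q : Subgroup G} (hQY : Q ≤ Y)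
    (hQ : IsPGroup p Q) : ∃ P, IsSyl p Y P ∧ Q ≤ P := by
  have hQ' : IsPGroup p (Q.subgroupOf Y) :=
    hQ.of_equiv (Subgroup.subgroupOfEquivOfLe hQY).symm
  obtain ⟨P, hP⟩ := hQ'.exists_le_sylow
  refine ⟨(P : Subgroup Y).map Y.subtype, ⟨Subgroup.map_subtype_le _, ?_⟩, ?_⟩
  · rw [Subgroup.card_map_of_injective Y.subtype_injective]
    exact P.card_eq_multiplicity
  · intro q hq
    exact ⟨⟨q, hQY hq⟩, hP (Subgroup.mem_subgroupOf.2 hq), rfl⟩

theorem exists_isSyl [Finite G] (p : ℕ) [Fact p.Prime] (Y : Subgroup G) :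
    ∃ P, IsSyl p Y P :=
  let ⟨P, hP, _⟩ := exists_isSyl_ge (p := p) (bot_le : ⊥ ≤ Y) IsPGroup.of_bot
  ⟨P, hP⟩

/-- A `p`-subgroup of `Y` lies in a conjugate of any Sylow `p`-subgroup. -/
theorem IsSyl.exists_conj_mem [Finite G] {p : ℕ} [Fact p.Prime] {Y P Q : Subgroup G}
    (hP : IsSyl p Y P) (hQY : Q ≤ Y) (hQ : IsPGroup p Q) :
    ∃ y ∈ Y, ∀ q ∈ Q, y * q * y⁻¹ ∈ P := by
  have hQ' : IsPGroup p (Q.subgroupOf Y) :=
    hQ.of_equiv (Subgroup.subgroupOfEquivOfLe hQY).symm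
  obtain ⟨R, hR⟩ := hQ'.exists_le_sylow
  let P' : Sylow p Y := Sylow.ofCard (P.subgroupOf Y) (by
    rw [Nat.card_congr (Subgroup.subgroupOfEquivOfLe hP.le).toEquiv, hP.card_eq])
  obtain ⟨y, hy⟩ := MulAction.exists_smul_eq Y R P'
  refine ⟨y.1, y.2, fun q hq => ?_⟩
  have h1 : y * (⟨q, hQY hq⟩ : Y) * y⁻¹ ∈ (y • R : Sylow p Y) := by
    rw [← SetLike.mem_coe, Sylow.coe_smul]
    exact Set.smul_mem_smul_set (hR (Subgroup.mem_subgroupOf.2 hq))
  rw [hy] at h1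
  exact h1

/-- Frattini: if `M` covers and normalises `Y ≤ D`, `Y ≤ M`, then so does `N_M(P)`. -/
theorem Cov.frattini [Finite G] {p : ℕ} [Fact p.Prime] {D M Y P : Subgroup G} (hD : D.Normal)
    (h : Cov D M) (hYM : Y ≤ M) (hYD : Y ≤ D)
    (hn : M ≤ Subgroup.normalizer (Y : Set G)) (hP : IsSyl p Y P) :
    Cov D (M ⊓ Subgroup.normalizer (P : Set G)) := by
  intro g
  obtain ⟨a, ha, hg⟩ := h g
  set Q := P.map (MulAut.conj a).toMonoidHom
  have hQY : Q ≤ Y := by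
    rintro _ ⟨x, hx, rfl⟩
    exact Subgroup.le_normalizer_iff.1 hn a ha x (hP.le hx)
  have hQ : IsPGroup p Q := hP.isPGroup.map _
  obtain ⟨y, hy, hyQ⟩ := hP.exists_conj_mem hQY hQ
  refine ⟨y * a, ⟨M.mul_mem (hYM hy) ha, ?_⟩, ?_⟩
  · show y * a ∈ Subgroup.normalizer (P : Set G)
    rw [Subgroup.mem_normalizer_iff_map_conj_eq]
    apply Subgroup.eq_of_le_of_card_ge
    · rintro _ ⟨x, hx, rfl⟩
      have := hyQ _ ⟨x, hx, rfl⟩
      simpa [mul_assoc] using this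
    · rw [Subgroup.card_map_of_injective (MulEquiv.injective _)]
  · have h1 : (y * a)⁻¹ * g = (a⁻¹ * y⁻¹ * a) * (a⁻¹ * g) := by group
    rw [h1]
    refine D.mul_mem ?_ hg
    simpa using hD.conj_mem _ (D.inv_mem (hYD hy)) a⁻¹

/-! ### Actions -/

variable {β : Type*} [MulAction G β]

theorem card_orbit_mul_card_inf [Finite G] (K : Subgroup G) (x : β) :
    (orbit K x).ncard * Nat.card ↥(K ⊓ stabilizer G x) = Nat.card K := by
  have h := Subgroup.index_mul_card (stabilizer K x)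
  rw [MulAction.index_stabilizer] at h
  rw [← h]
  congr 1
  exact Nat.card_congr ⟨fun z => ⟨⟨z.1, z.2.1⟩, z.2.2⟩, fun z => ⟨z.1.1, z.1.2, z.2⟩,
    fun z => rfl, fun z => rfl⟩

theorem orbit_eq_of_trans (K : Subgroup G) (Γ : Set β)
    (hinv : ∀ g ∈ K, ∀ x ∈ Γ, g • x ∈ Γ) (htr : ∀ x ∈ Γ, ∀ y ∈ Γ, ∃ g ∈ K, g • x = y)
    {x : β} (hx : x ∈ Γ) : orbit K x = Γ := by
  ext y
  constructor
  · rintro ⟨g, rfl⟩
    exact hinv g g.2 x hx
  · intro hy
    obtain ⟨g, hg, rfl⟩ := htr x hx y hy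
    exact ⟨⟨g, hg⟩, rfl⟩

theorem card_inf_stab_smul (K : Subgroup G) {k : G} (hk : ∀ z ∈ K, k * z * k⁻¹ ∈ K)
    (hk' : ∀ z ∈ K, k⁻¹ * z * k ∈ K) (x : β) :
    Nat.card ↥(K ⊓ stabilizer G (k • x)) = Nat.card ↥(K ⊓ stabilizer G x) := by
  refine Nat.card_congr ⟨fun z => ⟨k⁻¹ * z.1 * k, hk' _ z.2.1, ?_⟩,
    fun z => ⟨k * z.1 * k⁻¹, hk _ z.2.1, ?_⟩,
    fun z => Subtype.ext (by group), fun z => Subtype.ext (by group)⟩
  · have hz : z.1 • k • x = k • x := z.2.2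
    show (k⁻¹ * z.1 * k) • x = x
    rw [mul_smul, mul_smul, hz, inv_smul_smul]
  · have hz : z.1 • x = x := z.2.2
    show (k * z.1 * k⁻¹) • k • x = k • x
    rw [mul_smul, mul_smul, inv_smul_smul, hz]

/-- Number of fixed points of `g` on `Γ`. -/
noncomputable def nfix (Γ : Set β) (g : G) : ℕ := {x | x ∈ Γ ∧ g • x = x}.ncard

theorem sum_nfix [Fintype G] [Fintype β] (K : Subgroup G) (Γ : Set β) :
    ∑ g ∈ Finset.univ.filter (· ∈ K), nfix Γ g
      = ∑ x ∈ Γ.toFinset, Nat.card ↥(K ⊓ stabilizer G x) := by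
  have h1 : ∀ g : G, nfix Γ g = (Γ.toFinset.filter fun x => g • x = x).card := by
    intro g
    rw [nfix, Set.ncard_eq_toFinset_card']
    congr 1
    ext x
    simp
  have h2 : ∀ x : β, Nat.card ↥(K ⊓ stabilizer G x)
      = ((Finset.univ.filter (· ∈ K)).filter fun g => g • x = x).card := by
    intro x
    rw [Nat.card_eq_fintype_card, Fintype.card_of_subtype]
    intro g
    simp
  simp only [h1, h2, Finset.card_filter]
  exact Finset.sum_comm

theorem sum_nfix_of_trans [Fintype G] [Fintype β] (K : Subgroup G) (Γ : Set β)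
    (hne : Γ.Nonempty) (hinv : ∀ g ∈ K, ∀ x ∈ Γ, g • x ∈ Γ)
    (htr : ∀ x ∈ Γ, ∀ y ∈ Γ, ∃ g ∈ K, g • x = y) :
    ∑ g ∈ Finset.univ.filter (· ∈ K), nfix Γ g = Nat.card K := by
  rw [sum_nfix]
  have h1 : ∀ x ∈ Γ.toFinset, Γ.ncard * Nat.card ↥(K ⊓ stabilizer G x) = Nat.card K := by
    intro x hx
    rw [← card_orbit_mul_card_inf K x, orbit_eq_of_trans K Γ hinv htr (Set.mem_toFinset.1 hx)]
  have h3 : 0 < Γ.ncard := (Set.ncard_pos).2 hne
  apply Nat.eq_of_mul_eq_mul_left h3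
  rw [Finset.mul_sum, Finset.sum_congr rfl h1, Finset.sum_const, smul_eq_mul,
    Set.ncard_eq_toFinset_card']

theorem filter_mem_sdiff [Fintype G] (D M : Subgroup G) (f : G → ℕ) :
    ∑ g ∈ Finset.univ.filter (· ∈ M), f g
      = ∑ g ∈ Finset.univ.filter (· ∈ M ⊓ D), f g
        + ∑ g ∈ Finset.univ.filter (fun g => g ∈ M ∧ g ∉ D), f g := by
  rw [← Finset.sum_filter_add_sum_filter_not (Finset.univ.filter (· ∈ M)) (· ∈ D)]
  simp only [Finset.filter_filter, Subgroup.mem_inf]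

theorem card_filter_mem [Fintype G] (M : Subgroup G) :
    (Finset.univ.filter (· ∈ M)).card = Nat.card M := by
  rw [Nat.card_eq_fintype_card, Fintype.card_subtype]

theorem card_filter_sdiff [Fintype G] (D M : Subgroup G) :
    (Finset.univ.filter (fun g => g ∈ M ∧ g ∉ D)).card + Nat.card ↥(M ⊓ D) = Nat.card M := by
  have := filter_mem_sdiff D M (fun _ => 1)
  rw [← card_filter_mem M, ← card_filter_mem (M ⊓ D), Finset.card_eq_sum_ones,
    Finset.card_eq_sum_ones, Finset.card_eq_sum_ones, this, add_comm]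

/-- Every element of `M` outside `D` fixes exactly one point of `Γ`, and `M ⊓ D` is transitive
on `Γ`. -/
structure Fix1On (D M : Subgroup G) (Γ : Set β) : Prop where
  normal : D.Normal
  cov : Cov D M
  nonempty : Γ.Nonempty
  smul_mem : ∀ g ∈ M, ∀ x ∈ Γ, g • x ∈ Γ
  trans : ∀ x ∈ Γ, ∀ y ∈ Γ, ∃ g ∈ M ⊓ D, g • x = y
  uniq : ∀ g ∈ M, g ∉ D → ∃! x, x ∈ Γ ∧ g • x = x

theorem nfix_eq_one_iff [Finite β] {Γ : Set β} {g : G} :
    nfix Γ g = 1 ↔ ∃! x, x ∈ Γ ∧ g • x = x := by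
  rw [nfix, Set.ncard_eq_one]
  constructor
  · rintro ⟨a, ha⟩
    refine ⟨a, ?_, fun y hy => ?_⟩
    · exact ha.ge (Set.mem_singleton a)
    · exact Set.mem_singleton_iff.1 (ha.le hy)
  · rintro ⟨a, ha, hu⟩
    exact ⟨a, Set.ext fun y => ⟨fun hy => hu y hy, fun hy => by rw [Set.mem_singleton_iff.1 hy]; exact ha⟩⟩

/-- The counting lemma. -/
theorem fix1On_of_bound [Finite G] [Finite β] {D M : Subgroup G} {Γ : Set β} (hD : D.Normal)
    (hcov : Cov D M) (hne : Γ.Nonempty) (hinv : ∀ g ∈ M, ∀ x ∈ Γ, g • x ∈ Γ)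
    (htr : ∀ x ∈ Γ, ∀ y ∈ Γ, ∃ g ∈ M ⊓ D, g • x = y)
    (hb : (∀ g ∈ M, g ∉ D → ∀ x ∈ Γ, ∀ y ∈ Γ, g • x = x → g • y = y → x = y)
      ∨ (∀ g ∈ M, g ∉ D → ∃ x ∈ Γ, g • x = x)) : Fix1On D M Γ := by
  refine ⟨hD, hcov, hne, hinv, htr, fun g hgM hgD => ?_⟩
  have : Fintype G := Fintype.ofFinite G
  have : Fintype β := Fintype.ofFinite β
  have e1 := sum_nfix_of_trans M Γ hne hinv fun x hx y hy => by
    obtain ⟨g, hg, h⟩ := htr x hx y hy
    exact ⟨g, hg.1, h⟩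
  have e2 := sum_nfix_of_trans (M ⊓ D) Γ hne (fun g hg => hinv g hg.1) htr
  rw [filter_mem_sdiff D M, e2] at e1
  have e3 := card_filter_sdiff D M
  set s := Finset.univ.filter (fun g => g ∈ M ∧ g ∉ D) with hs
  have e4 : ∑ g ∈ s, nfix Γ g = ∑ g ∈ s, 1 := by
    rw [← Finset.card_eq_sum_ones]
    omega
  rw [← nfix_eq_one_iff]
  have hg : g ∈ s := by simp [hs, hgM, hgD]
  rcases hb with h | h
  · have hle : ∀ a ∈ s, nfix Γ a ≤ 1 := by
      intro a ha
      simp only [hs, Finset.mem_filter] at ha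
      rw [nfix, Set.ncard_le_one]
      exact fun x hx y hy => h a ha.2.1 ha.2.2 x hx.1 y hy.1 hx.2 hy.2
    exact (Finset.sum_eq_sum_iff_of_le hle).1 e4 g hg
  · have hle : ∀ a ∈ s, 1 ≤ nfix Γ a := by
      intro a ha
      simp only [hs, Finset.mem_filter] at ha
      obtain ⟨x, hx, hax⟩ := h a ha.2.1 ha.2.2
      exact (Set.ncard_pos).2 ⟨x, hx, hax⟩
    exact ((Finset.sum_eq_sum_iff_of_le hle).1 e4.symm g hg).symm

theorem Fix1On.eq_of_fix {D M : Subgroup G} {Γ : Set β} (h : Fix1On D M Γ) {g : G} (hg : g ∈ M)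
    (hgD : g ∉ D) {x y : β} (hx : x ∈ Γ) (hy : y ∈ Γ) (gx : g • x = x) (gy : g • y = y) :
    x = y :=
  (h.uniq g hg hgD).unique ⟨hx, gx⟩ ⟨hy, gy⟩

/-- Restriction to an invariant subset with a transitive group. -/
theorem Fix1On.restrict [Finite G] [Finite β] {D M M' : Subgroup G} {Γ Γ' : Set β}
    (h : Fix1On D M Γ) (hM : M' ≤ M) (hcov : Cov D M') (hsub : Γ' ⊆ Γ) (hne : Γ'.Nonempty)
    (hinv : ∀ g ∈ M', ∀ x ∈ Γ', g • x ∈ Γ')
    (htr : ∀ x ∈ Γ', ∀ y ∈ Γ', ∃ g ∈ M' ⊓ D, g • x = y) : Fix1On D M' Γ' :=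
  fix1On_of_bound h.normal hcov hne hinv htr
    (Or.inl fun _ hg hgD _ hx _ hy gx gy => h.eq_of_fix (hM hg) hgD (hsub hx) (hsub hy) gx gy)

/-- A covering subgroup has a covering point stabiliser. -/
theorem Fix1On.exists_cov_stab [Finite G] [Finite β] {D M M' : Subgroup G} {Γ : Set β}
    (h : Fix1On D M Γ) (hM : M' ≤ M) (hcov : Cov D M') :
    ∃ x ∈ Γ, Cov D (M' ⊓ stabilizer G x) := by
  by_cases hMD : M' ≤ D
  · obtain ⟨x, hx⟩ := h.nonempty
    refine ⟨x, hx, fun g => ⟨1, one_mem _, ?_⟩⟩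
    obtain ⟨a, ha, hg⟩ := hcov g
    simpa using D.mul_mem (hMD ha) hg
  obtain ⟨g0, hg0, hg0D⟩ := SetLike.not_le_iff_exists.1 hMD
  obtain ⟨x0, ⟨hx0, hfix0⟩, -⟩ := h.uniq g0 (hM hg0) hg0D
  have : Fintype G := Fintype.ofFinite G
  have : Fintype β := Fintype.ofFinite β
  set O := orbit M' x0 with hO
  have hOΓ : O ⊆ Γ := by rintro _ ⟨g, rfl⟩; exact h.smul_mem g (hM g.2) x0 hx0
  have hOinv : ∀ g ∈ M', ∀ x ∈ O, g • x ∈ O := by
    rintro g hg _ ⟨k, rfl⟩
    exact ⟨⟨g, hg⟩ * k, by simp [mul_smul, Subgroup.smul_def]⟩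
  -- the elements outside `D` whose fixed point is outside the orbit
  set a : β → ℕ := fun x => Nat.card ↥(M' ⊓ stabilizer G x) with ha
  set b : β → ℕ := fun x => Nat.card ↥(M' ⊓ D ⊓ stabilizer G x) with hb
  have hab : ∀ x, b x ≤ a x := fun x =>
    Nat.card_le_card_of_injective (Subgroup.inclusion (le_inf (inf_le_left.trans inf_le_left) inf_le_right))
      (Subgroup.inclusion_injective _)
  have htot : ∀ Δ : Set β, ∑ x ∈ Δ.toFinset, a x = ∑ x ∈ Δ.toFinset, b x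
      + ∑ g ∈ Finset.univ.filter (fun g => g ∈ M' ∧ g ∉ D), nfix Δ g := by
    intro Δ
    simp only [ha, hb]
    rw [← sum_nfix, ← sum_nfix, filter_mem_sdiff D M']
  have hdiff := card_filter_sdiff D M'
  have hΓ1 : ∑ g ∈ Finset.univ.filter (fun g => g ∈ M' ∧ g ∉ D), nfix Γ g
      = (Finset.univ.filter (fun g => g ∈ M' ∧ g ∉ D)).card := by
    rw [Finset.card_eq_sum_ones]
    refine Finset.sum_congr rfl fun g hg => ?_
    simp only [Finset.mem_filter] at hg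
    exact nfix_eq_one_iff.2 (h.uniq g (hM hg.2.1) hg.2.2)
  -- proper stabilisers at least halve
  have hhalf : ∀ x, b x < a x → 2 * b x ≤ a x := by
    intro x hlt
    have hle : M' ⊓ D ⊓ stabilizer G x ≤ M' ⊓ stabilizer G x :=
      le_inf (inf_le_left.trans inf_le_left) inf_le_right
    have hd : b x ∣ a x := Subgroup.card_dvd_of_le hle
    obtain ⟨k, hk⟩ := hd
    have : 2 ≤ k := by
      by_contra hk2
      interval_cases k <;> simp_all <;> omega
    calc 2 * b x ≤ k * b x := Nat.mul_le_mul_right _ this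
      _ = a x := by rw [hk, mul_comm]
  -- on each orbit meeting fixed points, the outside elements take at least half of `|M'|`
  have horb : ∀ y, b y < a y → Nat.card M' ≤ 2 * ∑ g ∈ Finset.univ.filter
      (fun g => g ∈ M' ∧ g ∉ D), nfix (orbit M' y) g := by
    intro y hy
    have hinv : ∀ g ∈ M', ∀ x ∈ orbit M' y, g • x ∈ orbit M' y := by
      rintro g hg _ ⟨k, rfl⟩
      exact ⟨⟨g, hg⟩ * k, by simp [mul_smul, Subgroup.smul_def]⟩
    have htr : ∀ x ∈ orbit M' y, ∀ z ∈ orbit M' y, ∃ g ∈ M', g • x = z := by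
      rintro _ ⟨k, rfl⟩ _ ⟨l, rfl⟩
      exact ⟨l * k⁻¹, (l * k⁻¹).2, by simp [mul_smul, Subgroup.smul_def]⟩
    have e1 := sum_nfix_of_trans M' (orbit M' y) ⟨y, mem_orbit_self y⟩ hinv htr
    rw [sum_nfix] at e1
    have hconst : ∀ x ∈ (orbit M' y).toFinset, b x = b y ∧ a x = a y := by
      intro x hx
      obtain ⟨⟨k, hk⟩, rfl⟩ := Set.mem_toFinset.1 hx
      exact ⟨card_inf_stab_smul (M' ⊓ D)
          (fun z hz => ⟨M'.mul_mem (M'.mul_mem hk hz.1) (M'.inv_mem hk), h.normal.conj_mem _ hz.2 k⟩)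
          (fun z hz => ⟨M'.mul_mem (M'.mul_mem (M'.inv_mem hk) hz.1) hk,
            by simpa using h.normal.conj_mem _ hz.2 k⁻¹⟩) y,
        card_inf_stab_smul M' (fun z hz => M'.mul_mem (M'.mul_mem hk hz) (M'.inv_mem hk))
          (fun z hz => M'.mul_mem (M'.mul_mem (M'.inv_mem hk) hz) hk) y⟩
    have e2 := htot (orbit M' y)
    have ea : ∑ x ∈ (orbit M' y).toFinset, a x = (orbit M' y).toFinset.card * a y := by
      rw [Finset.sum_congr rfl (fun x hx => (hconst x hx).2), Finset.sum_const, smul_eq_mul]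
    have eb : ∑ x ∈ (orbit M' y).toFinset, b x = (orbit M' y).toFinset.card * b y := by
      rw [Finset.sum_congr rfl (fun x hx => (hconst x hx).1), Finset.sum_const, smul_eq_mul]
    have h2 := Nat.mul_le_mul_left (orbit M' y).toFinset.card (hhalf y hy)
    simp only [ha] at e2
    rw [e1] at e2
    nlinarith
  -- all fixed points lie in `O`
  have hx0lt : b x0 < a x0 := by
    refine lt_of_le_of_ne (hab x0) fun he => hg0D ?_
    have hle : M' ⊓ D ⊓ stabilizer G x0 ≤ M' ⊓ stabilizer G x0 :=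
      le_inf (inf_le_left.trans inf_le_left) inf_le_right
    have := Subgroup.eq_of_le_of_card_ge hle he.ge
    have hmem : g0 ∈ M' ⊓ stabilizer G x0 := ⟨hg0, hfix0⟩
    rw [← this] at hmem
    exact hmem.1.2
  have hin : ∀ g ∈ M', g ∉ D → ∃ x ∈ O, g • x = x := by
    intro g hg hgD
    obtain ⟨y, ⟨hy, hgy⟩, -⟩ := h.uniq g (hM hg) hgD
    by_contra hno
    have hyO : y ∉ O := fun hyO => hno ⟨y, hyO, hgy⟩
    have hylt : b y < a y := by
      refine lt_of_le_of_ne (hab y) fun he => hgD ?_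
      have hle : M' ⊓ D ⊓ stabilizer G y ≤ M' ⊓ stabilizer G y :=
        le_inf (inf_le_left.trans inf_le_left) inf_le_right
      have := Subgroup.eq_of_le_of_card_ge hle he.ge
      have hmem : g ∈ M' ⊓ stabilizer G y := ⟨hg, hgy⟩
      rw [← this] at hmem
      exact hmem.1.2
    have h1 := horb x0 hx0lt
    have h2 := horb y hylt
    have hOy : orbit M' y ⊆ Γ := by
      rintro _ ⟨g, rfl⟩; exact h.smul_mem g (hM g.2) y hy
    have hdisj : Disjoint O (orbit M' y) := by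
      rw [Set.disjoint_left]
      intro z hz hz'
      exact hyO (by rw [hO, ← orbit_eq_iff.2 hz, orbit_eq_iff.2 hz']; exact mem_orbit_self y)
    have hsum : ∀ g : G, nfix O g + nfix (orbit M' y) g ≤ nfix Γ g := by
      intro g
      rw [nfix, nfix, nfix, ← Set.ncard_union_eq (hdisj.mono (fun _ h => h.1) (fun _ h => h.1))]
      refine Set.ncard_le_ncard ?_
      rintro z (⟨hz, hzg⟩ | ⟨hz, hzg⟩)
      · exact ⟨hOΓ hz, hzg⟩
      · exact ⟨hOy hz, hzg⟩
    have h3 := Finset.sum_le_sum (fun g (_ : g ∈ Finset.univ.filter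
      (fun g => g ∈ M' ∧ g ∉ D)) => hsum g)
    rw [Finset.sum_add_distrib, hΓ1] at h3
    have : 0 < Nat.card ↥(M' ⊓ D) := Nat.card_pos
    rw [← hO] at h1
    omega
  have htrO : ∀ x ∈ O, ∀ z ∈ O, ∃ g ∈ M', g • x = z := by
    rintro _ ⟨k, rfl⟩ _ ⟨l, rfl⟩
    exact ⟨l * k⁻¹, (l * k⁻¹).2, by simp [mul_smul, Subgroup.smul_def]⟩
  -- `M' ⊓ D` is transitive on `O`
  have hb' : orbit ↥(M' ⊓ D) x0 = O := by
    have hO1 : ∑ g ∈ Finset.univ.filter (fun g => g ∈ M' ∧ g ∉ D), nfix O g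
        = (Finset.univ.filter (fun g => g ∈ M' ∧ g ∉ D)).card := by
      rw [Finset.card_eq_sum_ones]
      refine Finset.sum_congr rfl fun g hg => ?_
      simp only [Finset.mem_filter] at hg
      obtain ⟨x, hx, hgx⟩ := hin g hg.2.1 hg.2.2
      exact nfix_eq_one_iff.2 ⟨x, ⟨hx, hgx⟩,
        fun z hz => h.eq_of_fix (hM hg.2.1) hg.2.2 (hOΓ hz.1) (hOΓ hx) hz.2 hgx⟩
    have e1 := sum_nfix_of_trans M' O ⟨x0, mem_orbit_self x0⟩ hOinv htrO
    rw [filter_mem_sdiff D M', hO1, sum_nfix] at e1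
    have e2 : ∑ x ∈ O.toFinset, b x = Nat.card ↥(M' ⊓ D) := by simp only [hb]; omega
    refine Set.eq_of_subset_of_ncard_le ?_ ?_ (Set.toFinite O)
    · rintro _ ⟨g, rfl⟩; exact ⟨⟨g.1, g.2.1⟩, rfl⟩
    · have hc : ∀ x ∈ O.toFinset, b x0 ≤ b x := by
        intro x hx
        obtain ⟨⟨k, hk⟩, rfl⟩ := Set.mem_toFinset.1 hx
        exact (card_inf_stab_smul (M' ⊓ D)
          (fun z hz => ⟨M'.mul_mem (M'.mul_mem hk hz.1) (M'.inv_mem hk), h.normal.conj_mem _ hz.2 k⟩)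
          (fun z hz => ⟨M'.mul_mem (M'.mul_mem (M'.inv_mem hk) hz.1) hk,
            by simpa using h.normal.conj_mem _ hz.2 k⁻¹⟩) x0).ge
      have h4 := Finset.card_nsmul_le_sum _ _ _ hc
      rw [e2, ← card_orbit_mul_card_inf (M' ⊓ D) x0, smul_eq_mul,
        ← Set.ncard_eq_toFinset_card'] at h4
      exact Nat.le_of_mul_le_mul_right h4 Nat.card_pos
  refine ⟨x0, hx0, fun g => ?_⟩
  obtain ⟨u, hu, hug⟩ := hcov g
  have : u • x0 ∈ orbit ↥(M' ⊓ D) x0 := by rw [hb']; exact ⟨⟨u, hu⟩, rfl⟩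
  obtain ⟨k, hk⟩ := this
  have hk' : k.1 • x0 = u • x0 := hk
  refine ⟨k.1⁻¹ * u, ⟨M'.mul_mem (M'.inv_mem k.2.1) hu, ?_⟩, ?_⟩
  · show k.1⁻¹ * u ∈ stabilizer G x0
    rw [mem_stabilizer_iff, mul_smul, ← hk', inv_smul_smul]
  · have : (k.1⁻¹ * u)⁻¹ * g = (u⁻¹ * k.1 * u) * (u⁻¹ * g) := by group
    rw [this]
    exact D.mul_mem (by simpa using h.normal.conj_mem _ k.2.2 u⁻¹) hug

/-- Orbits of a covering subgroup of a point stabiliser split into `D.index` parts. -/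
theorem Fix1On.card_orbit_eq [Finite G] [Finite β] {D M H : Subgroup G} {Γ : Set β}
    (h : Fix1On D M Γ) (hH : H ≤ M) (hcov : Cov D H) {a δ : β} (ha : a ∈ Γ) (hδ : δ ∈ Γ)
    (hfix : ∀ g ∈ H, g • a = a) (hne : δ ≠ a) :
    (orbit H δ).ncard = D.index * (orbit ↥(H ⊓ D) δ).ncard := by
  have e1 := card_orbit_mul_card_inf H δ
  have e2 := card_orbit_mul_card_inf (H ⊓ D) δ
  have hs : H ⊓ stabilizer G δ = H ⊓ D ⊓ stabilizer G δ := by
    refine le_antisymm (fun g hg => ⟨⟨hg.1, ?_⟩, hg.2⟩)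
      (le_inf (inf_le_left.trans inf_le_left) inf_le_right)
    by_contra hgD
    exact hne (h.eq_of_fix (hH hg.1) hgD hδ ha hg.2 (hfix g hg.1))
  rw [hs, card_eq_index_mul_card_inf h.normal hcov, ← e2, ← mul_assoc] at e1
  exact Nat.eq_of_mul_eq_mul_right Nat.card_pos e1

theorem Fix1On.succ_index_le [Finite G] [Finite β] {D M : Subgroup G} {Γ : Set β}
    (h : Fix1On D M Γ) (h2 : 2 ≤ Γ.ncard) : D.index + 1 ≤ Γ.ncard := by
  obtain ⟨a, ha, hcov⟩ := h.exists_cov_stab le_rfl h.cov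
  obtain ⟨δ, hδ, hne⟩ := Set.exists_ne_of_one_lt_ncard h2 a
  have e := h.card_orbit_eq inf_le_left hcov ha hδ (fun g hg => hg.2) hne
  have hle : (orbit ↥(M ⊓ stabilizer G a) δ).ncard + 1 ≤ Γ.ncard := by
    rw [← Set.ncard_insert_of_notMem (a := a) (s := orbit ↥(M ⊓ stabilizer G a) δ)]
    · refine Set.ncard_le_ncard (Set.insert_subset ha ?_)
      rintro _ ⟨g, rfl⟩
      exact h.smul_mem g g.2.1 δ hδ
    · rintro ⟨g, hg⟩
      apply hne
      have hga : g.1 • a = a := g.2.2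
      have hg' : g.1 • δ = a := hg
      exact smul_left_cancel g.1 (hg'.trans hga.symm)
  have hpos : 0 < (orbit ↥(M ⊓ stabilizer G a ⊓ D) δ).ncard :=
    (Set.ncard_pos).2 ⟨δ, mem_orbit_self δ⟩
  nlinarith

end Derange5732
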