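import Cfsg.Agent.Derange5732.Setting

/-!
# Reduction to a regular elementary abelian Sylow subgroup
-/

set_option autoImplicit false

namespace Derange5732

open scoped Classical Pointwise
open MulAction

variable {G : Type*} [Group G] {α : Type*} [MulAction G α]

/-- `U` is transitive. -/
def Trans (U : Subgroup G) (α : Type*) [MulAction G α] : Prop :=
  ∀ x y : α, ∃ u ∈ U, u • x = y

theorem Trans.mono {U V : Subgroup G} (h : Trans U α) (hle : U ≤ V) : Trans V α := fun x y =>
  let ⟨u, hu, e⟩ := h x y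
  ⟨u, hle hu, e⟩

theorem trans_iff_orbit [Finite α] {U : Subgroup G} (x : α) :
    Trans U α ↔ (orbit U x).ncard = Nat.card α := by
  constructor
  · intro h
    rw [← Set.ncard_univ]
    congr 1
    exact Set.eq_univ_of_forall fun y => let ⟨u, hu, e⟩ := h x y; ⟨⟨u, hu⟩, e⟩
  · intro h y z
    have hu : orbit U x = Set.univ := Set.eq_of_subset_of_ncard_le (Set.subset_univ _)
      (by rw [Set.ncard_univ, h]) Set.finite_univ
    obtain ⟨u, hu'⟩ : y ∈ orbit U x := hu ▸ Set.mem_univ y
    obtain ⟨v, hv⟩ : z ∈ orbit U x := hu ▸ Set.mem_univ z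
    refine ⟨v.1 * u.1⁻¹, U.mul_mem v.2 (U.inv_mem u.2), ?_⟩
    have e1 : u.1 • x = y := hu'
    have e2 : v.1 • x = z := hv
    rw [mul_smul, ← e1, inv_smul_smul, e2]

theorem card_le_of_trans [Finite G] [Finite α] [Nonempty α] {U : Subgroup G} (h : Trans U α) :
    Nat.card α ≤ Nat.card U := by
  obtain ⟨x⟩ : Nonempty α := inferInstance
  rw [← card_orbit_mul_card_inf U x, (trans_iff_orbit x).1 h]
  exact Nat.le_mul_of_pos_right _ Nat.card_pos

theorem dvd_card_of_trans [Finite G] [Finite α] {U : Subgroup G} (h : Trans U α) (x : α) :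
    Nat.card α * Nat.card ↥(U ⊓ stabilizer G x) = Nat.card U := by
  rw [← card_orbit_mul_card_inf U x, (trans_iff_orbit x).1 h]

/-- The basic hypothesis of the whole development. -/
structure Base (G : Type*) [Group G] (α : Type*) [MulAction G α] (D : Subgroup G) : Prop where
  fix1 : Fix1On D ⊤ (Set.univ : Set α)
  faithful : ∀ g : G, (∀ x : α, g • x = x) → g = 1
  two_le : 2 ≤ Nat.card α

namespace Base

variable [Finite G] [Finite α] {D : Subgroup G}

omit [Finite G] [Finite α] in
theorem normal (h : Base G α D) : D.Normal := h.fix1.normal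

omit [Finite G] [Finite α] in
theorem trans (h : Base G α D) : Trans D α := fun x y => by
  obtain ⟨g, hg, e⟩ := h.fix1.trans x trivial y trivial
  exact ⟨g, hg.2, e⟩

omit [Finite G] [Finite α] in
theorem eq_of_fix (h : Base G α D) {g : G} (hg : g ∉ D) {x y : α} (hx : g • x = x)
    (hy : g • y = y) : x = y :=
  h.fix1.eq_of_fix (g := g) trivial hg trivial trivial hx hy

theorem exists_cov_stab (h : Base G α D) {M : Subgroup G} (hcov : Cov D M) :
    ∃ x : α, Cov D (M ⊓ stabilizer G x) := by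
  obtain ⟨x, -, hx⟩ := h.fix1.exists_cov_stab (le_top : M ≤ ⊤) hcov
  exact ⟨x, hx⟩

omit [Finite G] [Finite α] in
theorem cov_stab (h : Base G α D) (x : α) : Cov D (stabilizer G x) := fun g => by
  obtain ⟨d, hd, hdx⟩ := h.trans x (g • x)
  refine ⟨d⁻¹ * g, ?_, ?_⟩
  · rw [mem_stabilizer_iff, mul_smul, ← hdx, inv_smul_smul]
  · have : (d⁻¹ * g)⁻¹ * g = g⁻¹ * d * g := by group
    rw [this]
    simpa using h.normal.conj_mem _ hd g⁻¹

theorem card_inf_stab (h : Base G α D) (x : α) :
    Nat.card α * Nat.card ↥(D ⊓ stabilizer G x) = Nat.card D :=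
  dvd_card_of_trans h.trans x

omit [Finite G] [Finite α] in
theorem stab_le_normalizer (h : Base G α D) (x : α) :
    stabilizer G x ≤ Subgroup.normalizer ((D ⊓ stabilizer G x : Subgroup G) : Set G) := by
  rw [Subgroup.le_normalizer_iff]
  exact fun g hg k hk => ⟨h.normal.conj_mem _ hk.1 g,
    (stabilizer G x).mul_mem ((stabilizer G x).mul_mem hg hk.2) ((stabilizer G x).inv_mem hg)⟩

/-- Prime parts: if `p ∣ n`, then `D.index + 1 ≤ n_p`, and the relevant data. -/
theorem succ_index_le_proj (h : Base G α D) {p : ℕ} (hp : p.Prime) (hpn : p ∣ Nat.card α) :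
    D.index + 1 ≤ p ^ (Nat.card α).factorization p := by
  have := Fact.mk hp
  obtain ⟨ω⟩ : Nonempty α := (Nat.card_pos_iff.1 (by have := h.two_le; omega)).1
  set H0 := D ⊓ stabilizer G ω with hH0
  obtain ⟨T, hT⟩ := exists_isSyl p H0
  have hTD : T ≤ D := hT.le.trans inf_le_left
  set X := Subgroup.normalizer (T : Set G) with hX
  have hXcov : Cov D X :=
    (Cov.frattini h.normal (h.cov_stab ω) inf_le_right inf_le_left (h.stab_le_normalizer ω) hT).mono
      inf_le_right
  set F : Set α := {x | ∀ t ∈ T, t • x = x} with hF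
  have hFinv : ∀ g ∈ X, ∀ x ∈ F, g • x ∈ F := by
    intro g hg x hx t ht
    have h1 : g⁻¹ * t * g ∈ T := by
      have := Subgroup.le_normalizer_iff.1 (le_refl X) g⁻¹ (inv_mem hg) t ht
      simpa using this
    have h2 := hx _ h1
    rw [mul_smul, mul_smul, inv_smul_eq_iff] at h2
    exact h2
  have hωF : ω ∈ F := fun t ht => (hT.le ht).2
  have hFtr : ∀ x ∈ F, ∀ y ∈ F, ∃ g ∈ X ⊓ D, g • x = y := by
    intro x hx y hy
    obtain ⟨d, hd, hdx⟩ := h.trans x y
    set Y := D ⊓ stabilizer G y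
    have hTY : T ≤ Y := le_inf hTD fun t ht => hy t ht
    have hcY : Nat.card Y = Nat.card H0 := by
      have e1 := h.card_inf_stab y
      have e2 := h.card_inf_stab ω
      exact Nat.eq_of_mul_eq_mul_left (by have := h.two_le; omega) (e1.trans e2.symm)
    have hsyl : IsSyl p Y T := ⟨hTY, by rw [hcY]; exact hT.card_eq⟩
    set Q := T.map (MulAut.conj d).toMonoidHom
    have hQY : Q ≤ Y := by
      rintro _ ⟨t, ht, rfl⟩
      refine ⟨h.normal.conj_mem _ (hTD ht) d, ?_⟩
      show (d * t * d⁻¹) • y = y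
      rw [← hdx, mul_smul, mul_smul, inv_smul_smul, hx t ht]
    obtain ⟨k, hk, hkQ⟩ := hsyl.exists_conj_mem hQY (hT.isPGroup.map _)
    refine ⟨k * d, ⟨?_, D.mul_mem hk.1 hd⟩, ?_⟩
    · show k * d ∈ Subgroup.normalizer (T : Set G)
      rw [Subgroup.mem_normalizer_iff_map_conj_eq]
      apply Subgroup.eq_of_le_of_card_ge
      · rintro _ ⟨t, ht, rfl⟩
        have := hkQ _ ⟨t, ht, rfl⟩
        simpa [mul_assoc] using this
      · rw [Subgroup.card_map_of_injective (MulEquiv.injective _)]
    · have hky : k • y = y := hk.2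
      rw [mul_smul, hdx, hky]
  have hFix : Fix1On D X F := h.fix1.restrict le_top hXcov (Set.subset_univ _) ⟨ω, hωF⟩ hFinv hFtr
  set Y := X ⊓ D with hY
  have hTY : T ≤ Y := le_inf Subgroup.le_normalizer hTD
  obtain ⟨R, hR, hTR⟩ := exists_isSyl_ge hTY hT.isPGroup
  have hXY : X ≤ Subgroup.normalizer (Y : Set G) := by
    rw [Subgroup.le_normalizer_iff]
    exact fun g hg k hk =>
      ⟨X.mul_mem (X.mul_mem hg hk.1) (X.inv_mem hg), h.normal.conj_mem _ hk.2 g⟩
  have hMcov := Cov.frattini h.normal hXcov inf_le_left inf_le_right hXY hR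
  obtain ⟨γ, hγ, hγcov⟩ := hFix.exists_cov_stab inf_le_left hMcov
  set M1 := X ⊓ Subgroup.normalizer (R : Set G) ⊓ stabilizer G γ with hM1
  -- the orbit of `R`
  set O := orbit R γ with hO
  have hOF : O ⊆ F := by rintro _ ⟨r, rfl⟩; exact hFinv r (hR.le r.2).1 γ hγ
  have hsupX : M1 ⊔ R ≤ X := sup_le (inf_le_left.trans inf_le_left) (hR.le.trans inf_le_left)
  have hOinv : ∀ g ∈ M1 ⊔ R, ∀ x ∈ O, g • x ∈ O := by
    have hstab : M1 ⊔ R ≤ stabilizer G O := by
      refine sup_le (fun g hg => ?_) (fun r hr => ?_)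
      · rw [mem_stabilizer_set_iff_subset_smul_set (Set.toFinite O)]
        intro x hx
        obtain ⟨r, rfl⟩ := hx
        refine ⟨(g⁻¹ * r.1 * g) • γ, ⟨⟨g⁻¹ * r.1 * g, ?_⟩, rfl⟩, ?_⟩
        · have := Subgroup.le_normalizer_iff.1 (le_refl (Subgroup.normalizer (R : Set G))) g⁻¹
            (inv_mem hg.1.2) r r.2
          simpa using this
        · have hgγ : g • γ = γ := hg.2
          show g • (g⁻¹ * r.1 * g) • γ = r.1 • γ
          rw [mul_smul, mul_smul, smul_inv_smul, hgγ]
      · rw [mem_stabilizer_set_iff_subset_smul_set (Set.toFinite O)]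
        intro x hx
        obtain ⟨s, rfl⟩ := hx
        exact ⟨(r⁻¹ * s.1) • γ, ⟨⟨r⁻¹ * s.1, R.mul_mem (R.inv_mem hr) s.2⟩, rfl⟩,
          show r • (r⁻¹ * s.1) • γ = s.1 • γ by rw [mul_smul, smul_inv_smul]⟩
    intro g hg x hx
    have hgstab : g • O = O := hstab hg
    rw [← hgstab]
    exact Set.smul_mem_smul_set hx
  have hOtr : ∀ x ∈ O, ∀ y ∈ O, ∃ g ∈ (M1 ⊔ R) ⊓ D, g • x = y := by
    rintro _ ⟨r, rfl⟩ _ ⟨s, rfl⟩
    refine ⟨s.1 * r.1⁻¹, ⟨Subgroup.mem_sup_right (R.mul_mem s.2 (R.inv_mem r.2)),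
      D.mul_mem (hR.le s.2).2 (D.inv_mem (hR.le r.2).2)⟩, ?_⟩
    show (s.1 * r.1⁻¹) • r.1 • γ = s.1 • γ
    rw [mul_smul, inv_smul_smul]
  have hOfix : Fix1On D (M1 ⊔ R) O := hFix.restrict hsupX (hγcov.mono le_sup_left) hOF
    ⟨γ, mem_orbit_self γ⟩ hOinv hOtr
  -- sizes
  have hTfix : T ≤ R ⊓ stabilizer G γ := le_inf hTR fun t ht => hγ t ht
  have hcardγ : Nat.card ↥(D ⊓ stabilizer G γ) = Nat.card H0 :=
    Nat.eq_of_mul_eq_mul_left (by have := h.two_le; omega)
      ((h.card_inf_stab γ).trans (h.card_inf_stab ω).symm)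
  have hstabT : R ⊓ stabilizer G γ = T := by
    refine (Subgroup.eq_of_le_of_card_ge hTfix ?_).symm
    obtain ⟨i, hi⟩ := (hR.isPGroup.to_le (inf_le_left : R ⊓ stabilizer G γ ≤ R)).exists_card_eq
    rw [hi, hT.card_eq]
    refine Nat.pow_le_pow_right hp.pos ((hp.pow_dvd_iff_le_factorization Nat.card_pos.ne').1 ?_)
    rw [← hcardγ, ← hi]
    exact Subgroup.card_dvd_of_le (inf_le_inf_right _ (hR.le.trans inf_le_right))
  have hOcard : O.ncard * Nat.card T = Nat.card R := by
    rw [← card_orbit_mul_card_inf R γ, hstabT]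
  obtain ⟨P, hP, hTP⟩ := exists_isSyl_ge hTD hT.isPGroup
  have hv : (Nat.card D).factorization p
      = (Nat.card α).factorization p + (Nat.card H0).factorization p := by
    rw [← h.card_inf_stab ω, Nat.factorization_mul (by have := h.two_le; omega) Nat.card_pos.ne']
    rfl
  have hTlt : Nat.card T < Nat.card R := by
    have hTPlt : T < P := lt_of_le_of_ne hTP fun he => by
      have e := hP.card_eq
      rw [← he, hT.card_eq, hv] at e
      have := Nat.pow_right_injective hp.two_le e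
      have := hp.factorization_pos_of_dvd (by have := h.two_le; omega) hpn
      omega
    -- normalisers grow in `P`
    have := hP.isPGroup.isNilpotent
    have hlt : T.subgroupOf P < Subgroup.normalizer ((T.subgroupOf P : Subgroup P) : Set P) := by
      refine Group.normalizerCondition_of_isNilpotent _ ?_
      rw [lt_top_iff_ne_top, Ne, Subgroup.subgroupOf_eq_top]
      exact hTPlt.not_ge
    set N' := (Subgroup.normalizer ((T.subgroupOf P : Subgroup P) : Set P)).map P.subtype
    have hN'Y : N' ≤ Y := by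
      rintro _ ⟨x, hx, rfl⟩
      refine ⟨?_, hP.le x.2⟩
      show x.1 ∈ Subgroup.normalizer (T : Set G)
      rw [Subgroup.mem_normalizer_iff]
      intro t
      by_cases htP : t ∈ P
      · have := Subgroup.mem_normalizer_iff.1 hx ⟨t, htP⟩
        simpa [Subgroup.mem_subgroupOf] using this
      · constructor <;> intro hc
        · exact absurd (hTP hc) htP
        · have := P.mul_mem (P.mul_mem (P.inv_mem x.2) (hTP hc)) x.2
          exact absurd (by simpa [mul_assoc] using this) htP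
    have hN'p : IsPGroup p N' := hP.isPGroup.to_le (Subgroup.map_subtype_le _)
    obtain ⟨i, hi⟩ := hN'p.exists_card_eq
    calc Nat.card T = Nat.card (T.subgroupOf P) :=
          (Nat.card_congr (Subgroup.subgroupOfEquivOfLe hTP).toEquiv).symm
      _ < Nat.card (Subgroup.normalizer ((T.subgroupOf P : Subgroup P) : Set P)) := by
          refine lt_of_le_of_ne (Subgroup.card_le_of_le hlt.le) fun he => hlt.ne ?_
          exact Subgroup.eq_of_le_of_card_ge hlt.le he.ge
      _ = Nat.card N' := (Subgroup.card_map_of_injective P.subtype_injective).symm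
      _ ≤ Nat.card R := by
          rw [hR.card_eq, hi]
          refine Nat.pow_le_pow_right hp.pos
            ((hp.pow_dvd_iff_le_factorization Nat.card_pos.ne').1 ?_)
          rw [← hi]
          exact Subgroup.card_dvd_of_le hN'Y
  have hO2 : 2 ≤ O.ncard := by
    by_contra hlt
    interval_cases hc : O.ncard <;> simp at hOcard <;> omega
  refine (hOfix.succ_index_le hO2).trans ?_
  have hle : Nat.card R ≤ p ^ (Nat.card α).factorization p * Nat.card T := by
    rw [hR.card_eq, hT.card_eq, ← pow_add, ← hv]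
    refine Nat.pow_le_pow_right hp.pos ?_
    have hd : Nat.card Y ∣ Nat.card D := Subgroup.card_dvd_of_le inf_le_right
    exact (Nat.factorization_le_iff_dvd Nat.card_pos.ne' Nat.card_pos.ne').2 hd p
  rw [← hOcard] at hle
  exact Nat.le_of_mul_le_mul_right hle Nat.card_pos

end Base

/-- The output of the reduction: a regular elementary abelian Sylow subgroup `S` of `D`. -/
structure Reg (G : Type*) [Group G] (α : Type*) [MulAction G α] (D S : Subgroup G) (ω : α)
    (p : ℕ) : Prop where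
  pp : p.Prime
  le : S ≤ D
  card_eq : Nat.card S = Nat.card α
  regular : S ⊓ stabilizer G ω = ⊥
  trans : Trans S α
  comm : ∀ x ∈ S, ∀ y ∈ S, x * y = y * x
  exp : ∀ x ∈ S, x ^ p = 1
  cov : Cov D (Subgroup.normalizer (S : Set G) ⊓ stabilizer G ω)
  irred : ∀ U ≤ S, Cov D (Subgroup.normalizer (U : Set G)) → U = ⊥ ∨ U = S
  coprime : ¬ p ∣ Nat.card ↥(D ⊓ stabilizer G ω)
  isPow : ∃ a, Nat.card α = p ^ a

namespace Base

variable [Finite G] [Finite α] {D : Subgroup G}

theorem sq_le_of_intransitive (h : Base G α D) {p a : ℕ} (hp : p.Prime)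
    (hn : Nat.card α = p ^ a)
    (hex : ∃ R : Subgroup G, R ≤ D ∧ IsPGroup p R ∧ R ≠ ⊥ ∧ ¬ Trans R α ∧
      Cov D (Subgroup.normalizer (R : Set G))) :
    (D.index + 1) ^ 2 ≤ Nat.card α := by
  have := Fact.mk hp
  obtain ⟨R, ⟨hRD, hRp, hR1, hRint, hRcov⟩, hmax⟩ :=
    Set.Finite.exists_maximal (Set.toFinite {R : Subgroup G | R ≤ D ∧ IsPGroup p R ∧ R ≠ ⊥ ∧
      ¬ Trans R α ∧ Cov D (Subgroup.normalizer (R : Set G))}) hex
  set Y := Subgroup.normalizer (R : Set G) ⊓ D with hY
  have hRY : R ≤ Y := le_inf Subgroup.le_normalizer hRD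
  obtain ⟨R', hR', hRR'⟩ := exists_isSyl_ge hRY hRp
  have hXY : Subgroup.normalizer (R : Set G) ≤ Subgroup.normalizer (Y : Set G) := by
    rw [Subgroup.le_normalizer_iff]
    exact fun g hg k hk => ⟨(Subgroup.normalizer (R : Set G)).mul_mem ((Subgroup.normalizer (R : Set G)).mul_mem hg hk.1) ((Subgroup.normalizer (R : Set G)).inv_mem hg), h.normal.conj_mem _ hk.2 g⟩
  have hMcov := Cov.frattini h.normal hRcov inf_le_left inf_le_right hXY hR'
  set M := Subgroup.normalizer (R : Set G) ⊓ Subgroup.normalizer (R' : Set G) with hM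
  have hR'tr : Trans R' α := by
    by_contra hni
    have hle : R' ≤ R := hmax ⟨hR'.le.trans inf_le_right, hR'.isPGroup,
      fun he => hR1 (eq_bot_iff.2 (he ▸ hRR')), hni, hMcov.mono inf_le_right⟩ hRR'
    have heq : R' = R := le_antisymm hle hRR'
    obtain ⟨P, hP, hRP⟩ := exists_isSyl_ge hRD hRp
    by_cases hPR : P = R
    · apply hRint
      rw [hPR] at hP
      obtain ⟨ω⟩ : Nonempty α := (Nat.card_pos_iff.1 (by have := h.two_le; omega)).1
      rw [trans_iff_orbit ω]
      apply le_antisymm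
      · rw [← Set.ncard_univ]; exact Set.ncard_le_ncard (Set.subset_univ _)
      · have e := card_orbit_mul_card_inf R ω
        have hle : Nat.card α * Nat.card ↥(R ⊓ stabilizer G ω) ≤ Nat.card R := by
          obtain ⟨i, hi⟩ := (hRp.to_le (inf_le_left : R ⊓ stabilizer G ω ≤ R)).exists_card_eq
          rw [hP.card_eq, hn, hi, ← pow_add]
          refine Nat.pow_le_pow_right hp.pos ((hp.pow_dvd_iff_le_factorization Nat.card_pos.ne').1 ?_)
          rw [pow_add, ← hi, ← hn, ← h.card_inf_stab ω]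
          exact Nat.mul_dvd_mul_left _ (Subgroup.card_dvd_of_le (inf_le_inf_right _ hP.le))
        rw [← e] at hle
        exact Nat.le_of_mul_le_mul_right hle Nat.card_pos
    · have hRPlt : R < P := lt_of_le_of_ne hRP (Ne.symm hPR)
      have := hP.isPGroup.isNilpotent
      have hlt : R.subgroupOf P < Subgroup.normalizer ((R.subgroupOf P : Subgroup P) : Set P) := by
        refine Group.normalizerCondition_of_isNilpotent _ ?_
        rw [lt_top_iff_ne_top, Ne, Subgroup.subgroupOf_eq_top]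
        exact hRPlt.not_ge
      obtain ⟨x, hx, hxR⟩ := SetLike.exists_of_lt hlt
      set Q := R ⊔ Subgroup.zpowers x.1
      have hxN : x.1 ∈ Subgroup.normalizer (R : Set G) := by
        rw [Subgroup.mem_normalizer_iff]
        intro t
        by_cases htP : t ∈ P
        · have := Subgroup.mem_normalizer_iff.1 hx ⟨t, htP⟩
          simpa [Subgroup.mem_subgroupOf] using this
        · constructor <;> intro hc
          · exact absurd (hRP hc) htP
          · have := P.mul_mem (P.mul_mem (P.inv_mem x.2) (hRP hc)) x.2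
            exact absurd (by simpa [mul_assoc] using this) htP
      have hQY : Q ≤ Y := sup_le hRY (Subgroup.zpowers_le.2 ⟨hxN, hP.le x.2⟩)
      have hQp : IsPGroup p Q := hP.isPGroup.to_le (sup_le hRP (Subgroup.zpowers_le.2 x.2))
      obtain ⟨i, hi⟩ := hQp.exists_card_eq
      have hc : Nat.card Q ≤ Nat.card R := by
        rw [← heq, hR'.card_eq, hi]
        refine Nat.pow_le_pow_right hp.pos ((hp.pow_dvd_iff_le_factorization Nat.card_pos.ne').1 ?_)
        rw [← hi]
        exact Subgroup.card_dvd_of_le hQY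
      have := Subgroup.eq_of_le_of_card_ge (le_sup_left : R ≤ Q) hc
      exact hxR (Subgroup.mem_subgroupOf.2
        (this.symm ▸ Subgroup.mem_sup_right (Subgroup.mem_zpowers x.1)))
  -- a point with covering stabiliser
  obtain ⟨γ, hγ⟩ := h.exists_cov_stab hMcov
  set M1 := M ⊓ stabilizer G γ
  have hnorm : ∀ g ∈ Subgroup.normalizer (R : Set G), ∀ x : α, g • orbit R x = orbit R (g • x) := by
    intro g hg x
    ext y
    constructor
    · rintro ⟨_, ⟨r, rfl⟩, rfl⟩
      refine ⟨⟨g * r.1 * g⁻¹, Subgroup.le_normalizer_iff.1 (le_refl (Subgroup.normalizer (_ : Set G))) g hg r r.2⟩, ?_⟩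
      show (g * r.1 * g⁻¹) • g • x = g • r.1 • x
      rw [mul_smul, mul_smul, inv_smul_smul]
    · rintro ⟨r, rfl⟩
      refine ⟨(g⁻¹ * r.1 * g) • x, ⟨⟨g⁻¹ * r.1 * g, by
        simpa using Subgroup.le_normalizer_iff.1 (le_refl (Subgroup.normalizer (_ : Set G))) g⁻¹ (inv_mem hg) r r.2⟩, rfl⟩, ?_⟩
      show g • (g⁻¹ * r.1 * g) • x = r.1 • g • x
      rw [mul_smul, mul_smul, smul_inv_smul]
  set B := orbit R γ with hB
  -- the block
  have hBfix : Fix1On D (M1 ⊔ R) B := by
    refine h.fix1.restrict le_top (hγ.mono le_sup_left) (Set.subset_univ _)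
      ⟨γ, mem_orbit_self γ⟩ ?_ ?_
    · intro g hg x hx
      have hgN : g ∈ Subgroup.normalizer (R : Set G) :=
        sup_le (inf_le_left.trans inf_le_left) Subgroup.le_normalizer hg
      have hgB : g • B = B := by
        have hs : M1 ⊔ R ≤ stabilizer G B := by
          refine sup_le (fun k hk => ?_) (fun k hk => ?_)
          · rw [mem_stabilizer_iff, hnorm k hk.1.1, (hk.2 : k • γ = γ)]
          · rw [mem_stabilizer_iff, hnorm k (Subgroup.le_normalizer hk)]
            exact orbit_eq_iff.2 ⟨⟨k, hk⟩, rfl⟩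
        exact hs hg
      rw [← hgB]
      exact Set.smul_mem_smul_set hx
    · rintro _ ⟨r, rfl⟩ _ ⟨s, rfl⟩
      refine ⟨s.1 * r.1⁻¹, ⟨Subgroup.mem_sup_right (R.mul_mem s.2 (R.inv_mem r.2)),
        D.mul_mem (hRD s.2) (D.inv_mem (hRD r.2))⟩, ?_⟩
      show (s.1 * r.1⁻¹) • r.1 • γ = s.1 • γ
      rw [mul_smul, inv_smul_smul]
  have hR'N : R' ≤ Subgroup.normalizer (R : Set G) := hR'.le.trans inf_le_left
  have hR'M : R' ≤ M ⊓ D :=
    le_inf (le_inf hR'N Subgroup.le_normalizer) (hR'.le.trans inf_le_right)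
  have hsize : ∀ x : α, (orbit R x).ncard = B.ncard := by
    intro x
    obtain ⟨r, hr, rfl⟩ := hR'tr γ x
    rw [← hnorm r (hR'N hr), hB]
    exact Set.ncard_image_of_injective _ (MulAction.injective r)
  have hB2 : 2 ≤ B.ncard := by
    by_contra hlt
    apply hR1
    rw [eq_bot_iff]
    intro r hr
    refine h.faithful r fun x => ?_
    obtain ⟨b, hb⟩ := Set.ncard_eq_one.1 (show (orbit R x).ncard = 1 by
      rw [hsize]
      have : 0 < B.ncard := (Set.ncard_pos).2 ⟨γ, mem_orbit_self γ⟩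
      omega)
    have h1 : r • x ∈ orbit R x := ⟨⟨r, hr⟩, rfl⟩
    have h2 : x ∈ orbit R x := mem_orbit_self x
    rw [hb, Set.mem_singleton_iff] at h1 h2
    rw [h1, h2]
  set Bl : Set (Set α) := Set.range (fun x : α => orbit R x) with hBl
  have hBlfix : Fix1On D M Bl := by
    refine fix1On_of_bound h.normal hMcov ⟨B, γ, rfl⟩ ?_ ?_ (Or.inr ?_)
    · rintro g hg _ ⟨x, rfl⟩
      exact ⟨g • x, (hnorm g hg.1 x).symm⟩
    · rintro _ ⟨x, rfl⟩ _ ⟨y, rfl⟩
      obtain ⟨r, hr, rfl⟩ := hR'tr x y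
      exact ⟨r, hR'M hr, hnorm r (hR'N hr) x⟩
    · intro g hg hgD
      obtain ⟨x, ⟨-, hx⟩, -⟩ := h.fix1.uniq g trivial hgD
      exact ⟨orbit R x, ⟨x, rfl⟩, by rw [hnorm g hg.1 x, hx]⟩
  have hprod : Nat.card α = Bl.ncard * B.ncard := by
    have : Fintype α := Fintype.ofFinite α
    rw [hBl, Nat.card_eq_fintype_card, ← Finset.card_univ,
      Finset.card_eq_sum_card_image (fun x : α => orbit R x)]
    rw [Finset.sum_const_nat (m := B.ncard)]
    · congr 1
      rw [Set.ncard_eq_toFinset_card']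
      congr 1
      ext s
      simp
    · intro s hs
      obtain ⟨x, -, rfl⟩ := Finset.mem_image.1 hs
      rw [← hsize x, Set.ncard_eq_toFinset_card']
      congr 1
      ext y
      simp [orbit_eq_iff]
  have hBl2 : 2 ≤ Bl.ncard := by
    by_contra hlt
    apply hRint
    rw [trans_iff_orbit γ, hprod]
    have : 0 < Bl.ncard := (Set.ncard_pos).2 ⟨B, γ, rfl⟩
    rw [show Bl.ncard = 1 by omega, one_mul, hB]
  calc (D.index + 1) ^ 2 = (D.index + 1) * (D.index + 1) := sq _
    _ ≤ Bl.ncard * B.ncard := Nat.mul_le_mul (hBlfix.succ_index_le hBl2) (hBfix.succ_index_le hB2)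
    _ = Nat.card α := hprod.symm

theorem reduction (h : Base G α D) :
    (D.index + 1) ^ 2 ≤ Nat.card α ∨ ∃ (S : Subgroup G) (ω : α) (p : ℕ), Reg G α D S ω p := by
  set n := Nat.card α with hn
  have hn2 := h.two_le
  set p := n.minFac with hpdef
  have hp : p.Prime := Nat.minFac_prime (by omega)
  by_cases hpp : ∃ q, q.Prime ∧ q ∣ n ∧ q ≠ p
  · obtain ⟨q, hq, hqn, hqp⟩ := hpp
    left
    have h1 := h.succ_index_le_proj hp (Nat.minFac_dvd n)
    have h2 := h.succ_index_le_proj hq hqn
    have hdvd : p ^ n.factorization p * q ^ n.factorization q ∣ n :=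
      Nat.Coprime.mul_dvd_of_dvd_of_dvd (Nat.coprime_pow_primes _ _ hp hq hqp.symm)
        (Nat.ordProj_dvd n p) (Nat.ordProj_dvd n q)
    calc (D.index + 1) ^ 2 = (D.index + 1) * (D.index + 1) := sq _
      _ ≤ _ := Nat.mul_le_mul h1 h2
      _ ≤ n := Nat.le_of_dvd (by omega) hdvd
  push Not at hpp
  obtain ⟨a, ha⟩ : ∃ a, n = p ^ a :=
    ⟨_, Nat.eq_prime_pow_of_unique_prime_dvd (by omega) (fun {d} hd hdn => hpp d hd hdn)⟩
  have := Fact.mk hp
  by_cases hex : ∃ R : Subgroup G, R ≤ D ∧ IsPGroup p R ∧ R ≠ ⊥ ∧ ¬ Trans R α ∧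
      Cov D (Subgroup.normalizer (R : Set G))
  · exact Or.inl (h.sq_le_of_intransitive hp ha hex)
  right
  push Not at hex
  obtain ⟨ω0⟩ : Nonempty α := (Nat.card_pos_iff.1 (by omega)).1
  -- the point stabilisers are `p'`
  have hcop : ¬ p ∣ Nat.card ↥(D ⊓ stabilizer G ω0) := by
    intro hdvd
    obtain ⟨T, hT⟩ := exists_isSyl p (D ⊓ stabilizer G ω0)
    have hT1 : T ≠ ⊥ := fun he => by
      have e := hT.card_eq
      rw [he, Subgroup.card_bot] at e
      have := hp.factorization_pos_of_dvd Nat.card_pos.ne' hdvd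
      have := Nat.one_lt_pow this.ne' hp.one_lt
      omega
    refine hex T (hT.le.trans inf_le_left) hT.isPGroup hT1 (fun htr => ?_)
      ((Cov.frattini h.normal (h.cov_stab ω0) inf_le_right inf_le_left
        (h.stab_le_normalizer ω0) hT).mono inf_le_right)
    have e := dvd_card_of_trans htr ω0
    rw [inf_eq_left.2 (hT.le.trans inf_le_right)] at e
    have : 0 < Nat.card T := Nat.card_pos
    nlinarith
  obtain ⟨S, hS⟩ := exists_isSyl p D
  have hScard : Nat.card S = n := by
    rw [hS.card_eq, ← h.card_inf_stab ω0, Nat.factorization_mul (by omega) Nat.card_pos.ne']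
    rw [Finsupp.add_apply, Nat.factorization_eq_zero_of_not_dvd hcop, add_zero, ← hn, ha, hp.factorization_pow, Finsupp.single_eq_same]
  have hDN : (⊤ : Subgroup G) ≤ Subgroup.normalizer (D : Set G) :=
    Subgroup.le_normalizer_iff.2 fun g _ k hk => h.normal.conj_mem k hk g
  have hNS : Cov D (Subgroup.normalizer (S : Set G)) :=
    (Cov.frattini h.normal (cov_top D) le_top le_rfl hDN hS).mono inf_le_right
  obtain ⟨ω, hω⟩ := h.exists_cov_stab hNS
  have hcopω : ¬ p ∣ Nat.card ↥(D ⊓ stabilizer G ω) := by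
    rwa [Nat.eq_of_mul_eq_mul_left (show 0 < Nat.card α by omega)
      ((h.card_inf_stab ω).trans (h.card_inf_stab ω0).symm)]
  have hreg : S ⊓ stabilizer G ω = ⊥ := by
    rw [← Subgroup.card_eq_one]
    obtain ⟨i, hi⟩ :=
      (hS.isPGroup.to_le (inf_le_left : S ⊓ stabilizer G ω ≤ S)).exists_card_eq
    rcases Nat.eq_zero_or_pos i with rfl | hi0
    · simpa using hi
    · exact absurd ((dvd_pow_self p hi0.ne').trans
        (hi ▸ Subgroup.card_dvd_of_le (inf_le_inf_right _ hS.le))) hcopω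
  have hStr : Trans S α := by
    rw [trans_iff_orbit ω]
    have e := card_orbit_mul_card_inf S ω
    rw [hreg, Subgroup.card_bot, mul_one] at e
    rw [e, hScard]
  have hirr : ∀ U ≤ S, Cov D (Subgroup.normalizer (U : Set G)) → U = ⊥ ∨ U = S := by
    intro U hU hcov
    by_contra hc
    push Not at hc
    refine hex U (hU.trans hS.le) (hS.isPGroup.to_le hU) hc.1 (fun htr => hc.2 ?_) hcov
    refine Subgroup.eq_of_le_of_card_ge hU ?_
    rw [hScard, hn]
    have : Nonempty α := ⟨ω⟩
    exact card_le_of_trans htr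
  -- abelian
  have hSnt : Nontrivial S := Finite.one_lt_card_iff_nontrivial.1 (by omega)
  have hZnorm : ∀ Z : Subgroup S, Z.Characteristic →
      Subgroup.normalizer (S : Set G) ≤ Subgroup.normalizer ((Z.map S.subtype : Subgroup G) : Set G) := by
    intro Z hZ
    rw [Subgroup.le_normalizer_iff]
    rintro g hg _ ⟨z, hz, rfl⟩
    let φ : S ≃* S := MulAut.conjNormal (H := S.subgroupOf (Subgroup.normalizer (S : Set G)))
      ⟨g, hg⟩ |> fun e => ((Subgroup.subgroupOfEquivOfLe Subgroup.le_normalizer).symm.trans e).trans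
        (Subgroup.subgroupOfEquivOfLe Subgroup.le_normalizer)
    have hfix := hZ.fixed φ
    refine ⟨φ z, ?_, rfl⟩
    have : z ∈ Z.comap φ.toMonoidHom := by rw [hfix]; exact hz
    exact this
  have hcomm : ∀ x ∈ S, ∀ y ∈ S, x * y = y * x := by
    have hZ := hirr ((Subgroup.center S).map S.subtype) (Subgroup.map_subtype_le _)
      (hNS.mono (hZnorm _ inferInstance))
    rcases hZ with hZ | hZ
    · exfalso
      rw [Subgroup.map_eq_bot_iff_of_injective _ S.subtype_injective] at hZ
      have := hS.isPGroup.center_nontrivial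
      rw [hZ] at this
      exact not_nontrivial (⊥ : Subgroup S) this
    · intro x hx y hy
      have : x ∈ (Subgroup.center S).map S.subtype := by rw [hZ]; exact hx
      obtain ⟨z, hz, rfl⟩ := this
      exact congrArg Subtype.val (Subgroup.mem_center_iff.1 hz ⟨y, hy⟩).symm
  have hexp : ∀ x ∈ S, x ^ p = 1 := by
    let O : Subgroup G :=
      { carrier := {x | x ∈ S ∧ x ^ p = 1}
        one_mem' := ⟨S.one_mem, one_pow p⟩
        mul_mem' := fun {a b} ha hb => ⟨S.mul_mem ha.1 hb.1, by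
          rw [Commute.mul_pow (hcomm a ha.1 b hb.1), ha.2, hb.2, mul_one]⟩
        inv_mem' := fun {a} ha => ⟨S.inv_mem ha.1, by rw [inv_pow, ha.2, inv_one]⟩ }
    have hO := hirr O (fun x hx => hx.1) (hNS.mono (Subgroup.le_normalizer_iff.2 fun g hg x hx =>
      ⟨Subgroup.le_normalizer_iff.1 (le_refl (Subgroup.normalizer (_ : Set G))) g hg x hx.1, by rw [conj_pow, hx.2]; group⟩))
    rcases hO with hO | hO
    · exfalso
      obtain ⟨x, hx⟩ := exists_prime_orderOf_dvd_card' (G := S) p
        (by rw [hScard]; exact Nat.minFac_dvd n)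
      have : (x : G) ∈ O := ⟨x.2, by
        rw [← hx, ← Subgroup.orderOf_coe]; exact pow_orderOf_eq_one _⟩
      rw [hO, Subgroup.mem_bot, OneMemClass.coe_eq_one] at this
      rw [this, orderOf_one] at hx
      exact hp.one_lt.ne hx
    · intro x hx
      have : x ∈ O := by rw [hO]; exact hx
      exact this.2
  exact ⟨S, ω, p, hp, hS.le, hScard, hreg, hStr, hcomm, hexp, hω, hirr, hcopω, a, ha⟩

end Base

end Derange5732
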